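import Mathlib
import Cfsg.Agent.Lib.Classical.WedgeDual
import Cfsg.Agent.Lib.Perm.Trans.OrthFrame.Basic

/-!
# The Klein correspondence in a frame adapted to a symplectic type two-group

With `i * i = -1` the alternating matrices of size four have six coordinates in which the Pfaffian is the sum of the
squares; the special linear group acts on them by congruence.
-/

set_option autoImplicit false
set_option linter.all false

namespace CfsgLib.Perm.Trans.KleinSix

open scoped Matrix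
open Matrix Cfsg Cfsg.Geo CfsgLib.Classical.ExcIsoSix CfsgLib.Classical.WedgeDual
open CfsgLib.Perm.Trans.OrthFrame (stdQ)

variable {K : Type*} [Field K]

local notation "M₄" => Matrix (Fin 4) (Fin 4) K

/-- the alternating matrix with the given coordinates -/
def alt (i : K) (y : Fin 6 → K) : M₄ :=
  !![0, y 0 + i * y 1, y 2 + i * y 3, y 4 + i * y 5;
    -(y 0 + i * y 1), 0, y 4 - i * y 5, -y 2 + i * y 3;
    -(y 2 + i * y 3), -(y 4 - i * y 5), 0, y 0 - i * y 1;
    -(y 4 + i * y 5), -(-y 2 + i * y 3), -(y 0 - i * y 1), 0]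

/-- the coordinates of an alternating matrix -/
def co (i : K) (X : M₄) : Fin 6 → K :=
  ![(X 0 1 + X 2 3) / 2, -i * (X 0 1 - X 2 3) / 2, (X 0 2 - X 1 3) / 2, -i * (X 0 2 + X 1 3) / 2,
    (X 0 3 + X 1 2) / 2, -i * (X 0 3 - X 1 2) / 2]

theorem co_alt {i : K} (hi : i * i = -1) (h2 : (2 : K) ≠ 0) (y : Fin 6 → K) : co i (alt i y) = y := by
  funext k
  fin_cases k <;> simp [co, alt] <;> field_simp <;>
    first
    | ring1
    | linear_combination (-(2 : K) * y 1) * hi
    | linear_combination (-(2 : K) * y 3) * hi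
    | linear_combination (-(2 : K) * y 5) * hi

theorem alt_co {i : K} (hi : i * i = -1) (h2 : (2 : K) ≠ 0) {X : M₄} (hX : Xᵀ = -X) : alt i (co i X) = X := by
  have h : ∀ r s, X s r = -X r s := fun r s => congrFun (congrFun hX r) s
  have hd : ∀ r, X r r = 0 := fun r =>
    (mul_eq_zero.1 (show (2 : K) * X r r = 0 by linear_combination h r r)).resolve_left h2
  ext r s
  fin_cases r <;> fin_cases s <;>
    simp [co, alt, hd, h 0 1, h 0 2, h 0 3, h 1 2, h 1 3, h 2 3] <;> field_simp <;>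
    first
    | ring1
    | linear_combination (X 0 1 - X 2 3) * hi
    | linear_combination -(X 0 1 - X 2 3) * hi
    | linear_combination (X 0 2 + X 1 3) * hi
    | linear_combination -(X 0 2 + X 1 3) * hi
    | linear_combination (X 0 3 - X 1 2) * hi
    | linear_combination -(X 0 3 - X 1 2) * hi

theorem alt_transpose (i : K) (y : Fin 6 → K) : (alt i y)ᵀ = -alt i y := by
  ext r s
  fin_cases r <;> fin_cases s <;> simp [alt]

theorem alt_add (i : K) (u v : Fin 6 → K) : alt i (u + v) = alt i u + alt i v := by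
  ext r s
  fin_cases r <;> fin_cases s <;> simp [alt] <;> ring

theorem alt_smul (i c : K) (v : Fin 6 → K) : alt i (c • v) = c • alt i v := by
  ext r s
  fin_cases r <;> fin_cases s <;> simp [alt] <;> ring

theorem alt_wedge (i : K) (y : Fin 6 → K) : ∃ v, wedge v = alt i y :=
  ⟨Sum.elim ![y 0 + i * y 1, y 2 + i * y 3, y 4 + i * y 5] ![y 0 - i * y 1, y 2 - i * y 3, y 4 - i * y 5], by
    ext r s
    fin_cases r <;> fin_cases s <;> simp [alt, wedge, upper] <;> ring⟩

theorem pf_alt {i : K} (hi : i * i = -1) (y : Fin 6 → K) : pf (alt i y) = stdQ y := by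
  simp [pf, alt, stdQ, dotProduct, Fin.sum_univ_six]
  linear_combination (-(y 1 ^ 2 + y 3 ^ 2 + y 5 ^ 2)) * hi

theorem co_add (i : K) (X Y : M₄) : co i (X + Y) = co i X + co i Y := by
  funext k
  fin_cases k <;> simp [co] <;> ring

theorem co_smul (i c : K) (X : M₄) : co i (c • X) = c • co i X := by
  funext k
  fin_cases k <;> simp [co] <;> ring

theorem conj_transpose_alt (g : M₄) {X : M₄} (hX : Xᵀ = -X) : (g * X * gᵀ)ᵀ = -(g * X * gᵀ) := by
  rw [transpose_mul, transpose_mul, transpose_transpose, hX, Matrix.neg_mul, Matrix.mul_neg, Matrix.mul_assoc]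

/-- congruence in coordinates -/
def kmap (i : K) (g : M₄) : (Fin 6 → K) →ₗ[K] Fin 6 → K where
  toFun y := co i (g * alt i y * gᵀ)
  map_add' u v := by rw [alt_add, Matrix.mul_add, Matrix.add_mul, co_add]
  map_smul' c v := by rw [alt_smul, Matrix.mul_smul, Matrix.smul_mul, co_smul]; rfl

theorem alt_kmap {i : K} (hi : i * i = -1) (h2 : (2 : K) ≠ 0) (g : M₄) (y : Fin 6 → K) :
    alt i (kmap i g y) = g * alt i y * gᵀ :=
  alt_co hi h2 (conj_transpose_alt g (alt_transpose i y))

theorem kmap_mul {i : K} (hi : i * i = -1) (h2 : (2 : K) ≠ 0) (g h : M₄) (y : Fin 6 → K) :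
    kmap i (g * h) y = kmap i g (kmap i h y) := by
  show co i _ = co i (g * alt i (kmap i h y) * gᵀ)
  rw [alt_kmap hi h2, transpose_mul]
  simp only [Matrix.mul_assoc]

theorem kmap_one {i : K} (hi : i * i = -1) (h2 : (2 : K) ≠ 0) (y : Fin 6 → K) : kmap i (1 : M₄) y = y := by
  show co i (1 * alt i y * 1ᵀ) = y
  rw [transpose_one, Matrix.one_mul, Matrix.mul_one, co_alt hi h2]

theorem kmap_quad {i : K} (hi : i * i = -1) (h2 : (2 : K) ≠ 0) (g : M₄) (y : Fin 6 → K) :
    stdQ (kmap i g y) = g.det * stdQ y := by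
  obtain ⟨v, hv⟩ := alt_wedge i y
  rw [← pf_alt hi, ← pf_alt hi, alt_kmap hi h2, ← hv, pf_conj]

theorem scalar_of_kmap {i : K} (hi : i * i = -1) (h2 : (2 : K) ≠ 0) {g : GL (Fin 4) K}
    (hdet : (g : M₄).det = 1) (h : ∀ y, kmap i (g : M₄) y = y) :
    ∃ c : K, c * c = 1 ∧ (g : M₄) = c • 1 := by
  obtain ⟨c, hc, hg⟩ := scalar_of_fix ⟨(g : M₄), hdet⟩ fun v => by
    have hX : (wedge v : M₄)ᵀ = -wedge v := by
      ext r s
      fin_cases r <;> fin_cases s <;> simp [wedge, upper]
    show (g : M₄) * wedge v * (g : M₄)ᵀ = wedge v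
    rw [← alt_co hi h2 hX, ← alt_kmap hi h2, h]
  refine ⟨c, hc, ?_⟩
  show (g : M₄) = _
  rw [show (g : M₄) = Matrix.scalar (Fin 4) c from hg]
  ext r s
  by_cases hrs : r = s <;> simp [hrs]

/-- congruence as a homomorphism -/
def phiK {i : K} (hi : i * i = -1) (h2 : (2 : K) ≠ 0) : GL (Fin 4) K →* GL (Fin 6) K where
  toFun g := ⟨LinearMap.toMatrix' (kmap i (g : M₄)), LinearMap.toMatrix' (kmap i ((g⁻¹ : GL (Fin 4) K) : M₄)),
    by
      rw [← LinearMap.toMatrix'_comp, ← LinearMap.toMatrix'_id]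
      refine congrArg _ (LinearMap.ext fun v => ?_)
      rw [LinearMap.comp_apply, ← kmap_mul hi h2, ← Units.val_mul, mul_inv_cancel, Units.val_one, kmap_one hi h2]
      rfl,
    by
      rw [← LinearMap.toMatrix'_comp, ← LinearMap.toMatrix'_id]
      refine congrArg _ (LinearMap.ext fun v => ?_)
      rw [LinearMap.comp_apply, ← kmap_mul hi h2, ← Units.val_mul, inv_mul_cancel, Units.val_one, kmap_one hi h2]
      rfl⟩
  map_one' := Units.ext <| by
    show LinearMap.toMatrix' (kmap i ((1 : GL (Fin 4) K) : M₄)) = 1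
    rw [← LinearMap.toMatrix'_id]
    exact congrArg _ (LinearMap.ext fun v => kmap_one hi h2 v)
  map_mul' g h := Units.ext <| by
    show LinearMap.toMatrix' (kmap i ((g : M₄) * (h : M₄))) =
      LinearMap.toMatrix' (kmap i (g : M₄)) * LinearMap.toMatrix' (kmap i (h : M₄))
    rw [← LinearMap.toMatrix'_comp]
    exact congrArg _ (LinearMap.ext fun v => kmap_mul hi h2 _ _ v)

theorem phiK_apply {i : K} (hi : i * i = -1) (h2 : (2 : K) ≠ 0) (g : GL (Fin 4) K) (v : Fin 6 → K) :
    (phiK hi h2 g : Matrix (Fin 6) (Fin 6) K) *ᵥ v = kmap i (g : M₄) v :=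
  LinearMap.toMatrix'_mulVec _ _

theorem phiK_entry {i : K} (hi : i * i = -1) (h2 : (2 : K) ≠ 0) (g : GL (Fin 4) K) (r k : Fin 6) :
    (phiK hi h2 g : Matrix (Fin 6) (Fin 6) K) r k = kmap i (g : M₄) (Pi.single k 1) r := by
  rw [← phiK_apply hi h2]
  simp

/-- on the fixed coordinates of a unitary element the conjugation is trivial -/
theorem kmap_fixed {i : K} (hi : i * i = -1) (h2 : (2 : K) ≠ 0) {σ : K →+* K} (hσi : σ i = -i) {g : M₄}
    (hdet : g.det = 1) (hU : g.map σ * gᵀ = 1) {y : Fin 6 → K} (hy : ∀ k, σ (y k) = y k) (k : Fin 6) :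
    σ (kmap i g y k) = kmap i g y k := by
  obtain ⟨v, hv⟩ := alt_wedge i y
  obtain ⟨v', hv'⟩ := alt_wedge i (kmap i g y)
  have hX : ∀ z : Fin 6 → K, (∀ k, σ (z k) = z k) → dual (alt i z) = (alt i z).map σ := fun z hz => by
    ext r s
    fin_cases r <;> fin_cases s <;> simp [dual, alt, hz, hσi] <;> ring
  have h1 : gᵀ * dual (g * alt i y * gᵀ) * g = (alt i y).map σ := by
    rw [← hv, dual_conj, hdet, one_smul, hv, hX y hy]
  have hU' : g * (g.map σ)ᵀ = 1 := by simpa using congrArg Matrix.transpose hU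
  have h3 : dual (g * alt i y * gᵀ) = (g * alt i y * gᵀ).map σ :=
    calc dual (g * alt i y * gᵀ) = g.map σ * gᵀ * dual (g * alt i y * gᵀ) * (g * (g.map σ)ᵀ) := by
          rw [hU, hU', Matrix.one_mul, Matrix.mul_one]
      _ = g.map σ * (gᵀ * dual (g * alt i y * gᵀ) * g) * (g.map σ)ᵀ := by simp only [Matrix.mul_assoc]
      _ = (g * alt i y * gᵀ).map σ := by rw [h1, Matrix.map_mul, Matrix.map_mul, Matrix.transpose_map]
  obtain ⟨X, hXdef⟩ : ∃ X, X = g * alt i y * gᵀ := ⟨_, rfl⟩
  rw [← hXdef] at h3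
  have e := fun r s => congrFun (congrFun h3 r) s
  have e01 : σ (X 0 1) = X 2 3 := by simpa [dual] using (e 0 1).symm
  have e23 : σ (X 2 3) = X 0 1 := by simpa [dual] using (e 2 3).symm
  have e02 : σ (X 0 2) = -X 1 3 := by simpa [dual] using (e 0 2).symm
  have e13 : σ (X 1 3) = -X 0 2 := by simpa [dual] using (e 1 3).symm
  have e03 : σ (X 0 3) = X 1 2 := by simpa [dual] using (e 0 3).symm
  have e12 : σ (X 1 2) = X 0 3 := by simpa [dual] using (e 1 2).symm
  show σ (co i (g * alt i y * gᵀ) k) = co i (g * alt i y * gᵀ) k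
  rw [← hXdef]
  fin_cases k <;> simp [co, map_div₀, hσi, e01, e23, e02, e13, e03, e12, map_ofNat] <;> ring

end CfsgLib.Perm.Trans.KleinSix
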