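import Mathlib
import Cfsg.Agent.Lib.Perm.Trans.KleinSix.Basic

/-!
# The standard symplectic type two-group in dimension four and its action on the six coordinates

Its generators act by sign changes, and `1 + x`, for five square roots `x` of minus one, by quarter turns of the planes
through the coordinate `0`.
-/

set_option autoImplicit false
set_option linter.all false

namespace CfsgLib.Perm.Trans.KleinSix

open scoped Matrix
open Matrix

variable {K : Type*} [Field K]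

local notation "M₄" => Matrix (Fin 4) (Fin 4) K

/-- the first diagonal involution -/
def mA : M₄ := !![1, 0, 0, 0; 0, 1, 0, 0; 0, 0, -1, 0; 0, 0, 0, -1]
/-- the exchange of the halves -/
def mB : M₄ := !![0, 0, 1, 0; 0, 0, 0, 1; 1, 0, 0, 0; 0, 1, 0, 0]
/-- the diagonal root of minus one -/
def mJ (i : K) : M₄ := !![i, 0, 0, 0; 0, -i, 0, 0; 0, 0, i, 0; 0, 0, 0, -i]
/-- the quarter turn in both halves -/
def mK : M₄ := !![0, -1, 0, 0; 1, 0, 0, 0; 0, 0, 0, -1; 0, 0, 1, 0]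
/-- the scalar root of minus one -/
def mS (i : K) : M₄ := !![i, 0, 0, 0; 0, i, 0, 0; 0, 0, i, 0; 0, 0, 0, i]

/-- five roots of minus one -/
def mX (i : K) : Fin 5 → M₄ :=
  ![!![i, 0, 0, 0; 0, i, 0, 0; 0, 0, -i, 0; 0, 0, 0, -i],
    !![0, 0, 0, 1; 0, 0, 1, 0; 0, -1, 0, 0; -1, 0, 0, 0],
    !![0, 0, 0, -i; 0, 0, i, 0; 0, i, 0, 0; -i, 0, 0, 0],
    !![0, 0, -1, 0; 0, 0, 0, 1; 1, 0, 0, 0; 0, -1, 0, 0],
    !![0, 0, i, 0; 0, 0, 0, i; i, 0, 0, 0; 0, i, 0, 0]]

theorem alt_mA (i : K) (y : Fin 6 → K) :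
    mA * alt i y * mAᵀ = alt i ![y 0, y 1, -y 2, -y 3, -y 4, -y 5] := by
  ext r s
  fin_cases r <;> fin_cases s <;> simp [mA, alt, Matrix.mul_apply, Fin.sum_univ_four] <;> ring

theorem alt_mB (i : K) (y : Fin 6 → K) :
    mB * alt i y * mBᵀ = alt i ![y 0, -y 1, -y 2, -y 3, -y 4, y 5] := by
  ext r s
  fin_cases r <;> fin_cases s <;> simp [mB, alt, Matrix.mul_apply, Fin.sum_univ_four] <;> ring

theorem alt_mJ {i : K} (hi : i * i = -1) (y : Fin 6 → K) :
    mJ i * alt i y * (mJ i)ᵀ = alt i ![y 0, y 1, -y 2, -y 3, y 4, y 5] := by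
  ext r s
  fin_cases r <;> fin_cases s <;> simp [mJ, alt, Matrix.mul_apply, Fin.sum_univ_four] <;> grind

theorem alt_mK (i : K) (y : Fin 6 → K) :
    mK * alt i y * mKᵀ = alt i ![y 0, y 1, -y 2, y 3, -y 4, y 5] := by
  ext r s
  fin_cases r <;> fin_cases s <;> simp [mK, alt, Matrix.mul_apply, Fin.sum_univ_four] <;> ring

theorem alt_mS {i : K} (hi : i * i = -1) (y : Fin 6 → K) :
    mS i * alt i y * (mS i)ᵀ = alt i ![-y 0, -y 1, -y 2, -y 3, -y 4, -y 5] := by
  ext r s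
  fin_cases r <;> fin_cases s <;> simp [mS, alt, Matrix.mul_apply, Fin.sum_univ_four] <;> grind



/-- the doubly turned coordinates -/
def turn2 (k : Fin 5) (y : Fin 6 → K) : Fin 6 → K :=
  ![![-y 1, y 0, y 2, y 3, y 4, y 5], ![y 2, y 1, -y 0, y 3, y 4, y 5], ![-y 3, y 1, y 2, y 0, y 4, y 5],
    ![y 4, y 1, y 2, y 3, -y 0, y 5], ![-y 5, y 1, y 2, y 3, y 4, y 0]] k

theorem alt_turn {i : K} (hi : i * i = -1) (k : Fin 5) (y : Fin 6 → K) :
    (1 + mX i k) * alt i y * (1 + mX i k)ᵀ = (2 : K) • alt i (turn2 k y) := by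
  ext r s
  fin_cases k <;> fin_cases r <;> fin_cases s <;>
    simp [mX, alt, turn2, Matrix.mul_apply, Fin.sum_univ_four, Matrix.one_apply] <;> grind

/-- the flipped coordinates -/
def flipped (k : Fin 5) (y : Fin 6 → K) : Fin 6 → K :=
  ![![-y 0, -y 1, y 2, y 3, y 4, y 5], ![-y 0, y 1, -y 2, y 3, y 4, y 5], ![-y 0, y 1, y 2, -y 3, y 4, y 5],
    ![-y 0, y 1, y 2, y 3, -y 4, y 5], ![-y 0, y 1, y 2, y 3, y 4, -y 5]] k

theorem alt_mX {i : K} (hi : i * i = -1) (k : Fin 5) (y : Fin 6 → K) :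
    mX i k * alt i y * (mX i k)ᵀ = alt i (flipped k y) := by
  ext r s
  fin_cases k <;> fin_cases r <;> fin_cases s <;>
    simp [mX, alt, flipped, Matrix.mul_apply, Fin.sum_univ_four] <;> grind

theorem mX_eq (i : K) : mX i 0 = mS i * mA ∧ mX i 4 = mS i * mB ∧ mX i 2 = mS i * mA * mB * mK := by
  refine ⟨?_, ?_, ?_⟩ <;>
  · ext r s
    fin_cases r <;> fin_cases s <;> simp [mX, mS, mA, mB, mK, Matrix.mul_apply, Fin.sum_univ_four]

theorem mX_eq' {i : K} (hi : i * i = -1) :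
    mX i 3 = mS i * mA * mB * mJ i ∧ mX i 1 = mS i * mA * mB * mJ i * mK := by
  refine ⟨?_, ?_⟩ <;>
  · ext r s
    fin_cases r <;> fin_cases s <;> simp [mX, mS, mA, mB, mJ, mK, Matrix.mul_apply, Fin.sum_univ_four] <;> grind

theorem mX_sq {i : K} (hi : i * i = -1) (k : Fin 5) : mX i k * mX i k = -1 := by
  ext r s
  fin_cases k <;> fin_cases r <;> fin_cases s <;>
    simp [mX, Matrix.mul_apply, Fin.sum_univ_four, Matrix.one_apply, hi]

theorem turn_inv {i : K} (hi : i * i = -1) (h2 : (2 : K) ≠ 0) (k : Fin 5) :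
    (1 + mX i k) * ((2 : K)⁻¹ • (1 - mX i k)) = 1 := by
  rw [Matrix.mul_smul, Matrix.mul_sub, Matrix.mul_one, Matrix.add_mul, Matrix.one_mul, mX_sq hi,
    show (1 : M₄) + mX i k - (mX i k + -1) = (2 : K) • 1 by rw [two_smul]; abel, smul_smul, inv_mul_cancel₀ h2,
    one_smul]

theorem det_turn {i : K} (hi : i * i = -1) (k : Fin 5) : (1 + mX i k).det = 4 := by
  rw [Matrix.det_succ_row_zero]
  fin_cases k <;> simp [mX, Fin.sum_univ_four, Matrix.det_fin_three, Fin.succAbove, Matrix.one_apply] <;> grind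

theorem det_gens {i : K} (hi : i * i = -1) :
    (mA : M₄).det = 1 ∧ (mB : M₄).det = 1 ∧ (mJ i).det = 1 ∧ (mK : M₄).det = 1 ∧ (mS i).det = 1 := by
  refine ⟨?_, ?_, ?_, ?_, ?_⟩ <;>
  · rw [Matrix.det_succ_row_zero]
    simp [mA, mB, mJ, mK, mS, Fin.sum_univ_four, Matrix.det_fin_three, Fin.succAbove]
    try grind

/-- the units given by the generators -/
def gA : GL (Fin 4) K :=
  ⟨mA, mA, by ext r s; fin_cases r <;> fin_cases s <;> simp [mA],
    by ext r s; fin_cases r <;> fin_cases s <;> simp [mA]⟩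
/-- the units given by the generators -/
def gB : GL (Fin 4) K :=
  ⟨mB, mB, by ext r s; fin_cases r <;> fin_cases s <;> simp [mB],
    by ext r s; fin_cases r <;> fin_cases s <;> simp [mB]⟩
/-- the units given by the generators -/
def gJ {i : K} (hi : i * i = -1) : GL (Fin 4) K :=
  ⟨mJ i, -mJ i, by ext r s; fin_cases r <;> fin_cases s <;> simp [mJ, hi],
    by ext r s; fin_cases r <;> fin_cases s <;> simp [mJ, hi]⟩
/-- the units given by the generators -/
def gK : GL (Fin 4) K :=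
  ⟨mK, -mK, by ext r s; fin_cases r <;> fin_cases s <;> simp [mK],
    by ext r s; fin_cases r <;> fin_cases s <;> simp [mK]⟩
/-- the units given by the generators -/
def gS {i : K} (hi : i * i = -1) : GL (Fin 4) K :=
  ⟨mS i, -mS i, by ext r s; fin_cases r <;> fin_cases s <;> simp [mS, hi],
    by ext r s; fin_cases r <;> fin_cases s <;> simp [mS, hi]⟩

/-- the standard group -/
def stdR {i : K} (hi : i * i = -1) : Subgroup (GL (Fin 4) K) := Subgroup.closure {gA, gB, gJ hi, gK, gS hi}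

/-- the five roots of minus one as units -/
def gX {i : K} (hi : i * i = -1) (k : Fin 5) : GL (Fin 4) K :=
  ⟨mX i k, -mX i k, by rw [Matrix.mul_neg, mX_sq hi, neg_neg], by rw [Matrix.neg_mul, mX_sq hi, neg_neg]⟩

/-- the turns as units -/
noncomputable def gT {i : K} (hi : i * i = -1) (h2 : (2 : K) ≠ 0) (k : Fin 5) : GL (Fin 4) K :=
  ⟨1 + mX i k, (2 : K)⁻¹ • (1 - mX i k), turn_inv hi h2 k,
    mul_eq_one_comm.1 (turn_inv hi h2 k)⟩

theorem gX_mem {i : K} (hi : i * i = -1) (k : Fin 5) : gX hi k ∈ stdR hi := by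
  have hA : gA ∈ stdR hi := Subgroup.subset_closure (by simp)
  have hB : gB ∈ stdR hi := Subgroup.subset_closure (by simp)
  have hJ : gJ hi ∈ stdR hi := Subgroup.subset_closure (by simp)
  have hK : gK ∈ stdR hi := Subgroup.subset_closure (by simp)
  have hS : gS hi ∈ stdR hi := Subgroup.subset_closure (by simp)
  fin_cases k
  · show gX hi 0 ∈ _
    rw [show gX hi 0 = gS hi * gA from Units.ext (mX_eq i).1]
    exact mul_mem hS hA
  · show gX hi 1 ∈ _
    rw [show gX hi 1 = gS hi * gA * gB * gJ hi * gK from Units.ext (mX_eq' hi).2]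
    exact mul_mem (mul_mem (mul_mem (mul_mem hS hA) hB) hJ) hK
  · show gX hi 2 ∈ _
    rw [show gX hi 2 = gS hi * gA * gB * gK from Units.ext (mX_eq i).2.2]
    exact mul_mem (mul_mem (mul_mem hS hA) hB) hK
  · show gX hi 3 ∈ _
    rw [show gX hi 3 = gS hi * gA * gB * gJ hi from Units.ext (mX_eq' hi).1]
    exact mul_mem (mul_mem (mul_mem hS hA) hB) hJ
  · show gX hi 4 ∈ _
    rw [show gX hi 4 = gS hi * gB from Units.ext (mX_eq i).2.1]
    exact mul_mem hS hB

end CfsgLib.Perm.Trans.KleinSix
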