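import Mathlib
import Cfsg.Agent.Lib.Perm.Trans.KleinSix.Std
import Cfsg.Agent.Lib.Perm.Trans.OrthFrame.Mono
import Cfsg.Agent.Lib.Perm.Elusive.STFour.Frame

/-!
# A symplectic type two-group of order sixty-four is conjugate to the standard one

The common eigenvectors of two commuting generators give the base change.
-/

set_option autoImplicit false
set_option linter.all false

namespace CfsgLib.Perm.Trans.KleinSix

open scoped Matrix
open Matrix Cfsg Cfsg.Geo CfsgLib.Perm.Elusive

variable {F : Type*} [Field F]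

local notation "M₄" => Matrix (Fin 4) (Fin 4) F

theorem isMaximalIn_map {G H : Type*} [Group G] [Group H] (e : G ≃* H) {K S : Subgroup G} (h : IsMaximalIn K S) :
    IsMaximalIn (K.map e.toMonoidHom) (S.map e.toMonoidHom) := by
  refine ⟨lt_of_le_of_ne (Subgroup.map_mono h.1.le) fun e' => h.1.ne (Subgroup.map_injective e.injective e'), fun M h1 h2 => ?_⟩
  have hM : (M.comap e.toMonoidHom).map e.toMonoidHom = M := Subgroup.map_comap_eq_self_of_surjective e.surjective M
  rcases h.2 (M.comap e.toMonoidHom) (Subgroup.map_le_iff_le_comap.1 h1) (fun g hg => by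
    obtain ⟨k, hk, e'⟩ := h2 (show e g ∈ M from hg)
    exact e.injective e' ▸ hk) with h3 | h3
  · exact Or.inl (by rw [← hM, h3])
  · exact Or.inr (by rw [← hM, h3])

/-- maximality of a normaliser passes along a conjugation fixing the ambient group -/
theorem maximal_of_conj [Fintype F] {G R₀ R : Subgroup (GL (Fin 4) F)} (P : GL (Fin 4) F)
    (hR : R₀.map (MulAut.conj P).toMonoidHom = R) (hG : G.map (MulAut.conj P).toMonoidHom = G)
    (h : IsMaximalIn G (subgroupNormalizer R₀ ⊓ G)) : IsMaximalIn G (subgroupNormalizer R ⊓ G) := by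
  have h1 := isMaximalIn_map (MulAut.conj P) h
  rw [Subgroup.map_inf _ _ _ (MulAut.conj P).injective, hG] at h1
  have h2 : (subgroupNormalizer R₀).map (MulAut.conj P).toMonoidHom = subgroupNormalizer R := by
    rw [← hR]
    exact Subgroup.map_equiv_normalizer_eq R₀ (MulAut.conj P)
  rwa [h2] at h1

/-- the standard group consists of monomial matrices -/
theorem stdR_mono [Fintype F] {i : F} (hi : i * i = -1) {g : GL (Fin 4) F} (hg : g ∈ stdR hi) : OrthFrame.Mono g := by
  have hle : stdR hi ≤ OrthFrame.monoG (ι := Fin 4) (F := F) := (Subgroup.closure_le _).2 fun x hx => by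
    simp only [Set.mem_insert_iff, Set.mem_singleton_iff] at hx
    rcases hx with rfl | rfl | rfl | rfl | rfl
    · intro k
      refine ⟨k, ![1, 1, -1, -1] k, ?_⟩
      show (mA : M₄) *ᵥ Pi.single k 1 = _
      funext r
      fin_cases k <;> fin_cases r <;> simp [mA, OrthFrame.bv]
    · intro k
      refine ⟨![2, 3, 0, 1] k, 1, ?_⟩
      show (mB : M₄) *ᵥ Pi.single k 1 = _
      funext r
      fin_cases k <;> fin_cases r <;> simp [mB, OrthFrame.bv]
    · intro k
      refine ⟨k, ![i, -i, i, -i] k, ?_⟩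
      show (mJ i : M₄) *ᵥ Pi.single k 1 = _
      funext r
      fin_cases k <;> fin_cases r <;> simp [mJ, OrthFrame.bv]
    · intro k
      refine ⟨![1, 0, 3, 2] k, ![1, -1, 1, -1] k, ?_⟩
      show (mK : M₄) *ᵥ Pi.single k 1 = _
      funext r
      fin_cases k <;> fin_cases r <;> simp [mK, OrthFrame.bv]
    · intro k
      refine ⟨k, i, ?_⟩
      show (mS i : M₄) *ᵥ Pi.single k 1 = _
      funext r
      fin_cases k <;> fin_cases r <;> simp [mS, OrthFrame.bv]
  exact hle hg

/-- an element moving a generator out of the monomial matrices does not normalise the standard group -/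
theorem not_normalizes [Fintype F] {i : F} (hi : i * i = -1) {t : GL (Fin 4) F} {k r s : Fin 4} (hrs : r ≠ s)
    (hr : (((t * gB * t⁻¹ : GL (Fin 4) F) : M₄) *ᵥ Pi.single k 1) r ≠ 0)
    (hs : (((t * gB * t⁻¹ : GL (Fin 4) F) : M₄) *ᵥ Pi.single k 1) s ≠ 0) :
    t ∉ subgroupNormalizer (stdR hi) := by
  intro ht
  have h1 : t * gB * t⁻¹ ∈ stdR hi :=
    (Subgroup.mem_normalizer_iff.1 ht gB).1 (Subgroup.subset_closure (by simp))
  obtain ⟨l, c, hc⟩ := stdR_mono hi h1 k
  have er := congrFun hc r
  have es := congrFun hc s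
  simp only [Pi.smul_apply, smul_eq_mul, OrthFrame.bv, Pi.single_apply] at er es
  rcases eq_or_ne r l with rfl | hrl
  · rw [if_neg (Ne.symm hrs), mul_zero] at es
    exact hs es
  · rw [if_neg hrl, mul_zero] at er
    exact hr er

theorem sgn_inj (h2 : (2 : F) ≠ 0) {a b : Fin 2} (h : STFour.Rels.sgn (F := F) a = STFour.Rels.sgn b) : a = b := by
  fin_cases a <;> fin_cases b <;> simp [STFour.Rels.sgn] at h ⊢
  · exact h2 (by linear_combination h)
  · exact h2 (by linear_combination -h)

/-- the order is more than sixteen when the action is irreducible -/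
theorem lt_card [Fintype F] {R : Subgroup (GL (Fin 4) F)} (hR : STFour.Setting R)
    (hZ : Nat.card (Subgroup.center R) = 4) {i : F} (hi : i * i = -1) :
    4 * Nat.card (Subgroup.center R) < Nat.card R := by
  classical
  haveI := hR.fin
  by_contra hcon
  rw [not_lt, hZ] at hcon
  obtain ⟨S, hS0, hStop, hSinv⟩ : ∃ S : Submodule F (Fin 4 → F), S ≠ ⊥ ∧ S ≠ ⊤ ∧
      ∀ r ∈ R, ∀ z ∈ S, (r : M₄) *ᵥ z ∈ S := by
    by_cases hlt : Nat.card (Subgroup.center R) < Nat.card R
    · obtain ⟨x, hx, hxn⟩ := hR.exists_noncentral hlt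
      obtain ⟨y, hy, hxy⟩ := hR.exists_anticomm hx hxn
      have hyn : ∀ c : F, (y : M₄) ≠ c • 1 := STFour.not_scalar_of_anticomm hR.two (by rw [hxy, neg_neg])
      -- an eigenvector
      obtain ⟨c, hc⟩ : ∃ c : F, (x : M₄) * x = (c * c) • 1 := by
        rcases hR.square hx with h | h
        · exact ⟨1, by rw [h, one_mul, one_smul]⟩
        · exact ⟨i, by rw [h, hi, neg_one_smul]⟩
      obtain ⟨z, hz⟩ : ∃ z, ((x : M₄) + c • 1) *ᵥ z ≠ 0 := by
        by_contra h
        push Not at h
        refine hxn (-c) ?_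
        rw [neg_smul, ← add_eq_zero_iff_eq_neg]
        exact Matrix.ext_iff_mulVec.2 fun z => by rw [h z, zero_mulVec]
      obtain ⟨v, hv⟩ : ∃ v, v = ((x : M₄) + c • 1) *ᵥ z := ⟨_, rfl⟩
      rw [← hv] at hz
      have hxv : (x : M₄) *ᵥ v = c • v := by
        rw [hv, mulVec_mulVec, mul_add, hc, mul_smul_comm, mul_one, ← smul_mulVec, smul_add, smul_smul, add_comm]
      refine ⟨Submodule.span F {v, (y : M₄) *ᵥ v}, fun h => hz ?_, fun h => ?_, ?_⟩
      · have h1 : v ∈ Submodule.span F {v, (y : M₄) *ᵥ v} := Submodule.subset_span (by simp)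
        rw [h] at h1
        exact (Submodule.mem_bot F).1 h1
      · have h1 := finrank_span_le_card (R := F) ({v, (y : M₄) *ᵥ v} : Set (Fin 4 → F))
        rw [h, finrank_top, Module.finrank_fintype_fun_eq_card, Fintype.card_fin] at h1
        have h3 : ({v, (y : M₄) *ᵥ v} : Set (Fin 4 → F)).toFinset.card ≤ 2 := by
          simpa using Finset.card_le_two
        omega
      -- every element is a product
      have hxy' : (x : M₄) *ᵥ ((y : M₄) *ᵥ v) = -(c • ((y : M₄) *ᵥ v)) := by
        rw [mulVec_mulVec, hxy, neg_mulVec, ← mulVec_mulVec, hxv, mulVec_smul]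
      obtain ⟨d, hd⟩ : ∃ d : F, (y : M₄) * y = d • 1 := by
        rcases hR.square hy with h | h
        · exact ⟨1, by rw [h, one_smul]⟩
        · exact ⟨-1, by rw [h, neg_one_smul]⟩
      let T : Submonoid (GL (Fin 4) F) :=
        { carrier := {g | ∀ w ∈ Submodule.span F {v, (y : M₄) *ᵥ v}, (g : M₄) *ᵥ w ∈ Submodule.span F {v, (y : M₄) *ᵥ v}}
          one_mem' := fun w hw => by rwa [Units.val_one, one_mulVec]
          mul_mem' := fun {g h} hg hh w hw => by
            rw [Units.val_mul, ← mulVec_mulVec]; exact hg _ (hh w hw) }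
      have hT : ∀ g : GL (Fin 4) F, ((g : M₄) *ᵥ v ∈ Submodule.span F {v, (y : M₄) *ᵥ v}) →
          ((g : M₄) *ᵥ ((y : M₄) *ᵥ v) ∈ Submodule.span F {v, (y : M₄) *ᵥ v}) → g ∈ T := fun g h1 h3 w hw => by
        have hle : Submodule.span F {v, (y : M₄) *ᵥ v} ≤
            (Submodule.span F {v, (y : M₄) *ᵥ v}).comap (Matrix.toLin' (g : M₄)) := Submodule.span_le.2 (by
          rintro _ (rfl | rfl)
          exacts [h1, h3])
        have := hle hw
        simpa [Matrix.toLin'_apply] using this
      have m1 : v ∈ Submodule.span F {v, (y : M₄) *ᵥ v} := Submodule.subset_span (by simp)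
      have m2 : (y : M₄) *ᵥ v ∈ Submodule.span F {v, (y : M₄) *ᵥ v} := Submodule.subset_span (by simp)
      have hxT : x ∈ T := hT x (by rw [hxv]; exact Submodule.smul_mem _ _ m1)
        (by rw [hxy']; exact Submodule.neg_mem _ (Submodule.smul_mem _ _ m2))
      have hyT : y ∈ T := hT y m2 (by rw [mulVec_mulVec, hd, smul_mulVec, one_mulVec]; exact Submodule.smul_mem _ _ m1)
      have hsur : Function.Surjective fun q : Fin 2 × Fin 2 × Subgroup.center R =>
          (⟨x ^ (q.1 : ℕ) * y ^ (q.2.1 : ℕ) * ((q.2.2 : R) : GL (Fin 4) F),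
            mul_mem (mul_mem (pow_mem hx _) (pow_mem hy _)) (q.2.2 : R).2⟩ : R) := by
        have hinj : Function.Injective fun q : Fin 2 × Fin 2 × Subgroup.center R =>
            (⟨x ^ (q.1 : ℕ) * y ^ (q.2.1 : ℕ) * ((q.2.2 : R) : GL (Fin 4) F),
              mul_mem (mul_mem (pow_mem hx _) (pow_mem hy _)) (q.2.2 : R).2⟩ : R) := by
          rintro ⟨a, b, z₁⟩ ⟨a', b', z₂⟩ h
          obtain ⟨s₁, hs₁⟩ := hR.scalar_of_central (g := ((z₁ : R) : GL (Fin 4) F))
            (fun g hg => (congrArg Subtype.val (Subgroup.mem_center_iff.1 z₁.2 ⟨g, hg⟩)).symm)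
          obtain ⟨s₂, hs₂⟩ := hR.scalar_of_central (g := ((z₂ : R) : GL (Fin 4) F))
            (fun g hg => (congrArg Subtype.val (Subgroup.mem_center_iff.1 z₂.2 ⟨g, hg⟩)).symm)
          have hm : (x : M₄) ^ (a : ℕ) * (y : M₄) ^ (b : ℕ) * (s₁ • 1) =
              (x : M₄) ^ (a' : ℕ) * (y : M₄) ^ (b' : ℕ) * (s₂ • 1) := by
            have e := congrArg (fun r : R => ((r : GL (Fin 4) F) : M₄)) h
            simpa [hs₁, hs₂] using e
          simp only [mul_smul_comm, mul_one] at hm
          have hyx : (y : M₄) * x = -((x : M₄) * y) := by rw [hxy, neg_neg]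
          have hs0 : s₁ ≠ 0 := fun h0 => by
            rw [h0, zero_smul] at hs₁
            exact ((z₁ : R) : GL (Fin 4) F).ne_zero hs₁
          have hs0' : s₂ ≠ 0 := fun h0 => by
            rw [h0, zero_smul] at hs₂
            exact ((z₂ : R) : GL (Fin 4) F).ne_zero hs₂
          -- the commutation signs separate the four products
          have ha : a = a' ∧ b = b' := by
            obtain ⟨W, hW⟩ : ∃ W : Fin 2 → Fin 2 → M₄, W = fun (a b : Fin 2) => (x : M₄) ^ (a : ℕ) * (y : M₄) ^ (b : ℕ) := ⟨_, rfl⟩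
            have hsx : ∀ a b : Fin 2, W a b * x = STFour.Rels.sgn (F := F) b • ((x : M₄) * W a b) := by
              intro a b
              fin_cases a <;> fin_cases b <;> simp [hW, STFour.Rels.sgn, mul_assoc, hyx]
            have hsy : ∀ a b : Fin 2, W a b * y = STFour.Rels.sgn (F := F) a • ((y : M₄) * W a b) := by
              intro a b
              fin_cases a <;> fin_cases b <;> simp [hW, STFour.Rels.sgn, mul_assoc, hyx] <;>
                simp [← mul_assoc, hxy]
              rw [mul_assoc, hxy, mul_neg, neg_neg, mul_assoc]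
            have hm' : s₁ • W a b = s₂ • W a' b' := by rw [hW]; exact hm
            have hne : ∀ (u : GL (Fin 4) F), (u : M₄) * W a b ≠ 0 := fun u h0 => by
              have hu : (((u * (x ^ (a : ℕ) * y ^ (b : ℕ))) : GL (Fin 4) F) : M₄) = 0 := by
                rw [← h0, hW]; simp
              exact Units.ne_zero _ hu
            have hcmp : ∀ (u : GL (Fin 4) F) (e e' : F), W a b * u = e • ((u : M₄) * W a b) →
                W a' b' * u = e' • ((u : M₄) * W a' b') → e = e' := by
              intro u e e' h1 h3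
              have k1 : s₁ • (W a b * u) = s₂ • (W a' b' * u) := by rw [← smul_mul_assoc, hm', smul_mul_assoc]
              rw [h1, h3, smul_comm s₁, smul_comm s₂, ← mul_smul_comm s₂, ← hm', mul_smul_comm, smul_smul, smul_smul] at k1
              have k2 : ((e - e') * s₁) • ((u : M₄) * W a b) = 0 := by rw [sub_mul, sub_smul, k1, sub_self]
              rcases smul_eq_zero.1 k2 with k | k
              · exact sub_eq_zero.1 ((mul_eq_zero.1 k).resolve_right hs0)
              · exact absurd k (hne u)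
            refine ⟨?_, ?_⟩
            · exact sgn_inj hR.two (hcmp y _ _ (hsy a b) (hsy a' b'))
            · exact sgn_inj hR.two (hcmp x _ _ (hsx a b) (hsx a' b'))
          obtain ⟨rfl, rfl⟩ := ha
          refine Prod.ext rfl (Prod.ext rfl (Subtype.ext (Subtype.ext ?_)))
          exact mul_left_cancel (congrArg Subtype.val h)
        haveI : Fintype (Subgroup.center R) := Fintype.ofFinite _
        refine (hinj.bijective_of_nat_card_le ?_).2
        rw [Nat.card_prod, Nat.card_prod, Nat.card_fin, hZ]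
        omega
      intro r hr w hw
      obtain ⟨⟨a, b, z₁⟩, hq⟩ := hsur ⟨r, hr⟩
      have e : r = x ^ (a : ℕ) * y ^ (b : ℕ) * ((z₁ : R) : GL (Fin 4) F) := (congrArg Subtype.val hq).symm
      obtain ⟨s₁, hs₁⟩ := hR.scalar_of_central (g := ((z₁ : R) : GL (Fin 4) F))
        (fun g hg => (congrArg Subtype.val (Subgroup.mem_center_iff.1 z₁.2 ⟨g, hg⟩)).symm)
      have hzT : ((z₁ : R) : GL (Fin 4) F) ∈ T := fun u hu => by
        rw [hs₁, smul_mulVec, one_mulVec]
        exact Submodule.smul_mem _ _ hu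
      exact (e ▸ mul_mem (mul_mem (pow_mem hxT _) (pow_mem hyT _)) hzT : r ∈ T) w hw
    · refine ⟨Submodule.span F {Pi.single 0 1}, fun h => ?_, fun h => ?_, fun r hr z hz => ?_⟩
      · rw [Submodule.span_singleton_eq_bot] at h
        simpa using congrFun h 0
      · have h1 := finrank_span_singleton (K := F) (show (Pi.single 0 1 : Fin 4 → F) ≠ 0 from fun h => by
          simpa using congrFun h 0)
        rw [h, finrank_top, Module.finrank_fintype_fun_eq_card, Fintype.card_fin] at h1
        omega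
      · have htop : Subgroup.center R = ⊤ := Subgroup.eq_top_of_le_card _ (not_lt.1 hlt)
        obtain ⟨s₁, hs₁⟩ := hR.scalar_of_central (g := r) (fun g hg =>
          (congrArg Subtype.val (Subgroup.mem_center_iff.1 (htop ▸ Subgroup.mem_top (⟨r, hr⟩ : R)) ⟨g, hg⟩)).symm)
        rw [hs₁, smul_mulVec, one_mulVec]
        exact Submodule.smul_mem _ _ hz
  rcases hR.absIrr.1 S (by
    rintro _ ⟨r, hr, rfl⟩ _ ⟨z, hz, rfl⟩
    rw [Matrix.toLin'_apply]
    exact hSinv r hr z hz) with h | h
  · exact hS0 h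
  · exact hStop h

/-- the base change -/
theorem exists_base [Fintype F] {R : Subgroup (GL (Fin 4) F)} (hR : STFour.Setting R)
    (hZ : Nat.card (Subgroup.center R) = 4) :
    ∃ (i : F) (hi : i * i = -1) (P : GL (Fin 4) F), (stdR hi).map (MulAut.conj P).toMonoidHom = R ∧
      ∀ f : (Fin 4 → F) → (Fin 4 → F) → F, (∀ r ∈ R, ∀ u w, f ((r : M₄) *ᵥ u) ((r : M₄) *ᵥ w) = f u w) →
        ∀ σ : F →+* F, σ i = -i → (∀ (a : F) u w, f (a • u) w = a * f u w) → (∀ (a : F) u w, f u (a • w) = σ a * f u w) →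
          ∀ k l, f ((P : M₄) *ᵥ Pi.single k 1) ((P : M₄) *ᵥ Pi.single l 1) =
            if k = l then f ((P : M₄) *ᵥ Pi.single 0 1) ((P : M₄) *ᵥ Pi.single 0 1) else 0 := by
  classical
  -- a square root of minus one
  obtain ⟨i, hi⟩ : ∃ i : F, i * i = -1 := by
    by_contra hno
    push Not at hno
    haveI := hR.fin
    have hall : ∀ z : Subgroup.center R, ((z : R) : GL (Fin 4) F).1 = 1 ∨ ((z : R) : GL (Fin 4) F).1 = -1 := fun z => by
      obtain ⟨c, hc⟩ := (hR.scalar_iff (z : R).2).2 z.2
      rcases hR.scalar_sq (z : R).2 hc with h | h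
      · rcases mul_self_eq_one_iff.1 h with rfl | rfl
        · exact Or.inl (by rw [hc, one_smul])
        · exact Or.inr (by rw [hc, neg_one_smul])
      · exact absurd h (hno c)
    have hinj : Function.Injective fun z : Subgroup.center R => decide (((z : R) : GL (Fin 4) F).1 = 1) := by
      intro z w hzw
      simp only [decide_eq_decide] at hzw
      refine Subtype.ext (Subtype.ext (Units.ext ?_))
      rcases hall z with h | h <;> rcases hall w with h' | h'
      · rw [h, h']
      · exact absurd (h'.symm.trans (hzw.1 h)) (STFour.neg_one_ne_one hR.two)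
      · exact absurd (h.symm.trans (hzw.2 h')) (STFour.neg_one_ne_one hR.two)
      · rw [h, h']
    have := Nat.card_le_card_of_injective _ hinj
    rw [hZ, Nat.card_eq_fintype_card, Fintype.card_bool] at this
    omega
  have h2 := hR.two
  obtain ⟨A, B, J, K, hA, hB, hJ, hK, hrel, i', hi', s, hs, hsi⟩ :=
    hR.exists_frame_four_of_lt (by simp) (lt_card hR hZ hi) hZ
  refine ⟨i', hi', ?_⟩
  clear hi i
  obtain ⟨x, hx⟩ : ∃ x, ((1 + (A : M₄)) * (1 - i' • (J : M₄))) *ᵥ x ≠ 0 := by
    by_contra h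
    push Not at h
    have h1 : (1 + (A : M₄)) * (1 - i' • (J : M₄)) = 0 := Matrix.ext_iff_mulVec.2 fun x => by rw [h x, zero_mulVec]
    have h3 : (1 + (A : M₄)) * (1 + i' • (J : M₄)) = 0 := by
      have e : (K : M₄) * ((1 + A) * (1 - i' • J)) * (-(K : M₄)) = (1 + A) * (1 + i' • J) := by
        simp only [mul_add, add_mul, mul_sub, sub_mul, mul_one, one_mul, mul_smul_comm, smul_mul_assoc, mul_neg,
          neg_mul, mul_assoc, hrel.KA', hrel.KJ', hrel.KK, hrel.KK', hrel.KA, hrel.KJ, smul_neg, neg_neg, sub_neg_eq_add,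
          neg_sub]
        abel
      rw [← e, h1, mul_zero, zero_mul]
    have h4 : (A : M₄) = -1 := by
      have e : (2 : F) • (1 + (A : M₄)) = 0 := by
        rw [two_smul]
        calc (1 + (A : M₄)) + (1 + A) = (1 + A) * (1 - i' • J) + (1 + A) * (1 + i' • J) := by
              simp only [mul_add, mul_sub, mul_one]; abel
          _ = 0 := by rw [h1, h3, add_zero]
      rw [eq_neg_iff_add_eq_zero, add_comm]
      exact (smul_eq_zero.1 e).resolve_left h2
    have h5 := hrel.BA
    rw [h4, mul_neg, neg_mul, mul_one, one_mul, neg_neg] at h5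
    have h6 : (2 : F) • (B : M₄) = 0 := by
      rw [two_smul]
      nth_rw 1 [← h5]
      rw [neg_add_cancel]
    exact B.ne_zero ((smul_eq_zero.1 h6).resolve_left h2)
  obtain ⟨v, hv⟩ : ∃ v, v = ((1 + (A : M₄)) * (1 - i' • (J : M₄))) *ᵥ x := ⟨_, rfl⟩
  rw [← hv] at hx
  have hAv : (A : M₄) *ᵥ v = v := by
    rw [hv, mulVec_mulVec, ← mul_assoc, mul_add, mul_one, hrel.AA, add_comm]
  have hJv : (J : M₄) *ᵥ v = i' • v := by
    rw [hv, mulVec_mulVec, ← smul_mulVec]
    congr 1
    rw [← mul_assoc, show (J : M₄) * (1 + A) = (1 + A) * J by rw [mul_add, add_mul, mul_one, one_mul, hrel.JA],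
      mul_assoc, ← mul_smul_comm]
    congr 1
    rw [mul_sub, mul_one, mul_smul_comm, hrel.JJ, smul_neg, smul_sub, smul_smul, hi', neg_one_smul]
    abel
  obtain ⟨col, hcol⟩ : ∃ col : Fin 4 → Fin 4 → F,
      col = ![v, (K : M₄) *ᵥ v, (B : M₄) *ᵥ v, (B : M₄) *ᵥ ((K : M₄) *ᵥ v)] := ⟨_, rfl⟩
  have mv : ∀ (X Y : M₄) (w : Fin 4 → F), X *ᵥ (Y *ᵥ w) = (X * Y) *ᵥ w := fun X Y w => mulVec_mulVec w X Y
  have hAB : (A : M₄) * B = -((B : M₄) * A) := by rw [hrel.BA, neg_neg]
  have hJK : (J : M₄) * K = -((K : M₄) * J) := by rw [hrel.KJ, neg_neg]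
  have cA : ∀ k, (A : M₄) *ᵥ col k = (![1, 1, -1, -1] k : F) • col k := by
    intro k
    fin_cases k <;> simp [hcol]
    · exact hAv
    · rw [← hrel.KA, ← mv, hAv]
    · rw [hAB, neg_mulVec, ← mv, hAv]
    · rw [← mul_assoc, hAB, neg_mul, mul_assoc, ← hrel.KA, neg_mulVec, ← mul_assoc, ← mv, hAv]
  have cJ : ∀ k, (J : M₄) *ᵥ col k = (![i', -i', i', -i'] k : F) • col k := by
    intro k
    fin_cases k <;> simp [hcol]
    · exact hJv
    · rw [hJK, neg_mulVec, ← mv, hJv, mulVec_smul]
    · rw [hrel.JB, ← mv, hJv, mulVec_smul]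
    · rw [← mul_assoc, hrel.JB, mul_assoc, hJK, mul_neg, neg_mulVec, ← mul_assoc, ← mv, hJv, mulVec_smul]
  have cB : ∀ k, (B : M₄) *ᵥ col k = col (![2, 3, 0, 1] k) := by
    intro k
    fin_cases k <;> simp [hcol]
    · rw [hrel.BB, one_mulVec]
    · rw [← mul_assoc, hrel.BB, one_mul]
  have cK : ∀ k, (K : M₄) *ᵥ col k = (![1, -1, 1, -1] k : F) • col (![1, 0, 3, 2] k) := by
    intro k
    fin_cases k <;> simp [hcol]
    · rw [hrel.KK, neg_mulVec, one_mulVec]
    · rw [hrel.KB]
    · rw [hrel.KB', hrel.KK, mul_neg, mul_one, neg_mulVec]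
  have hcol0 : ∀ k, col k ≠ 0 := by
    intro k h0
    fin_cases k <;> simp [hcol] at h0
    · exact hx h0
    · exact hx (gl_mulVec_eq_zero.1 h0)
    · exact hx (gl_mulVec_eq_zero.1 h0)
    · rw [← mulVec_mulVec] at h0
      exact hx (gl_mulVec_eq_zero.1 (gl_mulVec_eq_zero.1 h0))
  obtain ⟨Pm, hPm⟩ : ∃ Pm : M₄, Pm = Matrix.of fun r k => col k r := ⟨_, rfl⟩
  have hPy : ∀ y, Pm *ᵥ y = ∑ k, y k • col k := fun y => funext fun r => by
    rw [hPm, Finset.sum_apply, Matrix.mulVec, dotProduct]
    exact Finset.sum_congr rfl fun k _ => by rw [Matrix.of_apply, Pi.smul_apply, smul_eq_mul, mul_comm]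
  have hinj : Function.Injective fun y => Pm *ᵥ y := by
    have key : ∀ y, Pm *ᵥ y = 0 → y = 0 := by
      intro y hy
      rw [hPy, Fin.sum_univ_four] at hy
      have e1 := congrArg ((A : M₄) *ᵥ ·) hy
      simp only [mulVec_add, mulVec_smul, cA, mulVec_zero] at e1
      simp at e1
      have p1 : y 0 • col 0 + y 1 • col 1 = 0 := smul_right_injective (Fin 4 → F) h2 (by
        show (2 : F) • _ = (2 : F) • (0 : Fin 4 → F)
        rw [smul_zero]; linear_combination (norm := module) hy + e1)
      have p2 : y 2 • col 2 + y 3 • col 3 = 0 := smul_right_injective (Fin 4 → F) h2 (by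
        show (2 : F) • _ = (2 : F) • (0 : Fin 4 → F)
        rw [smul_zero]; linear_combination (norm := module) hy - e1)
      have h2i : (2 * i') ≠ 0 := mul_ne_zero h2 fun h0 => by rw [h0] at hi'; simp at hi'
      have half : ∀ (k l : Fin 4), (![i', -i', i', -i'] k : F) = i' → (![i', -i', i', -i'] l : F) = -i' →
          y k • col k + y l • col l = 0 → y k = 0 ∧ y l = 0 := by
        intro k l hk hl h0
        have e := congrArg ((J : M₄) *ᵥ ·) h0
        simp only [mulVec_add, mulVec_smul, cJ, hk, hl, mulVec_zero] at e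
        have q1 : (2 * i' * y k) • col k = 0 := by linear_combination (norm := module) i' • h0 + e
        have q2 : (2 * i' * y l) • col l = 0 := by linear_combination (norm := module) i' • h0 - e
        exact ⟨(mul_eq_zero.1 ((smul_eq_zero.1 q1).resolve_right (hcol0 k))).resolve_left h2i,
          (mul_eq_zero.1 ((smul_eq_zero.1 q2).resolve_right (hcol0 l))).resolve_left h2i⟩
      obtain ⟨a0, a1⟩ := half 0 1 rfl rfl p1
      obtain ⟨a2, a3⟩ := half 2 3 rfl rfl p2
      funext k
      fin_cases k <;> assumption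
    intro y y' h
    refine sub_eq_zero.1 (key (y - y') ?_)
    rw [mulVec_sub, sub_eq_zero]
    exact h
  obtain ⟨P, hP⟩ : ∃ P : GL (Fin 4) F, (P : M₄) = Pm :=
    ⟨(Matrix.mulVec_injective_iff_isUnit.1 hinj).unit, IsUnit.unit_spec _⟩
  have hPk : ∀ k, (P : M₄) *ᵥ Pi.single k 1 = col k := fun k => by
    rw [hP, hPm]; funext r; simp
  have hPsingle : ∀ (m : M₄) (k : Fin 4), (P : M₄) *ᵥ (m *ᵥ Pi.single k 1) = ∑ l, m l k • col l := fun m k => by
    rw [hP, hPy]; simp
  have hconj : ∀ (X : GL (Fin 4) F) (m : GL (Fin 4) F),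
      (∀ k, (X : M₄) *ᵥ col k = ∑ l, (m : M₄) l k • col l) → P * m * P⁻¹ = X := by
    intro X m h
    rw [mul_inv_eq_iff_eq_mul]
    refine Units.ext (Matrix.ext_of_mulVec_single fun k => ?_)
    rw [Units.val_mul, Units.val_mul, ← mulVec_mulVec, hPsingle, ← mulVec_mulVec, hPk, h]
  refine ⟨P, ?_, fun f hf σ hσ hfl hfr k l => ?_⟩
  · have eA : P * gA * P⁻¹ = A := hconj A gA fun k => by
      rw [cA, Fin.sum_univ_four]; fin_cases k <;> simp [gA, mA]
    have eB : P * gB * P⁻¹ = B := hconj B gB fun k => by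
      rw [cB, Fin.sum_univ_four]; fin_cases k <;> simp [gB, mB]
    have eJ : P * gJ hi' * P⁻¹ = J := hconj J (gJ hi') fun k => by
      rw [cJ, Fin.sum_univ_four]; fin_cases k <;> simp [gJ, mJ]
    have eK : P * gK * P⁻¹ = K := hconj K gK fun k => by
      rw [cK, Fin.sum_univ_four]; fin_cases k <;> simp [gK, mK]
    have eS : P * gS hi' * P⁻¹ = s := hconj s (gS hi') fun k => by
      rw [hsi, smul_mulVec, one_mulVec, Fin.sum_univ_four]; fin_cases k <;> simp [gS, mS]
    refine le_antisymm ?_ fun r hr => ?_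
    · rw [stdR, MonoidHom.map_closure]
      refine (Subgroup.closure_le _).2 ?_
      rintro _ ⟨g, hg, rfl⟩
      simp only [Set.mem_insert_iff, Set.mem_singleton_iff] at hg
      show P * g * P⁻¹ ∈ R
      rcases hg with rfl | rfl | rfl | rfl | rfl <;> simp only [eA, eB, eJ, eK, eS] <;> assumption
    · obtain ⟨T, hT⟩ : ∃ T, T = (stdR hi').map (MulAut.conj P).toMonoidHom := ⟨_, rfl⟩
      rw [← hT]
      have hg : ∀ g X : GL (Fin 4) F, g ∈ ({gA, gB, gJ hi', gK, gS hi'} : Set (GL (Fin 4) F)) →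
          P * g * P⁻¹ = X → X ∈ T := fun g X hg e => hT ▸ ⟨g, Subgroup.subset_closure hg, e⟩
      have mA' : A ∈ T := hg _ _ (by simp) eA
      have mB' : B ∈ T := hg _ _ (by simp) eB
      have mJ' : J ∈ T := hg _ _ (by simp) eJ
      have mK' : K ∈ T := hg _ _ (by simp) eK
      have mS' : s ∈ T := hg _ _ (by simp) eS
      obtain ⟨a, b, c, d, z, hz⟩ := hR.exists_word (by simp) hA hB hJ hK hrel hr
      obtain ⟨W, hW⟩ : ∃ W, W = A ^ (a : ℕ) * B ^ (b : ℕ) * J ^ (c : ℕ) * K ^ (d : ℕ) := ⟨_, rfl⟩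
      rw [← hW] at hz
      have hWR : W ∈ R := hW ▸ mul_mem (mul_mem (mul_mem (pow_mem hA _) (pow_mem hB _)) (pow_mem hJ _)) (pow_mem hK _)
      have hWT : W ∈ T := hW ▸
        mul_mem (mul_mem (mul_mem (pow_mem mA' _) (pow_mem mB' _)) (pow_mem mJ' _)) (pow_mem mK' _)
      have hWr : W * r ∈ T := by
        have hcase : z = 1 ∨ z = -1 ∨ z = i' ∨ z = -i' := by
          rcases hR.scalar_sq (mul_mem hWR hr) hz with h | h
          · rcases mul_self_eq_one_iff.1 h with e | e <;> simp [e]
          · have e' : (z - i') * (z + i') = 0 := by linear_combination h - hi'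
            rcases mul_eq_zero.1 e' with e | e
            · simp [sub_eq_zero.1 e]
            · simp [eq_neg_of_add_eq_zero_left e]
        rcases hcase with rfl | rfl | rfl | rfl
        · rw [show W * r = 1 from Units.ext (by rw [hz, one_smul, Units.val_one])]; exact one_mem T
        · rw [show W * r = s * s from Units.ext (by
            rw [hz, Units.val_mul, hsi, smul_mul_assoc, one_mul, smul_smul, hi'])]
          exact mul_mem mS' mS'
        · rw [show W * r = s from Units.ext (by rw [hz, hsi])]; exact mS'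
        · rw [show W * r = s * s * s from Units.ext (by
            rw [hz, Units.val_mul, Units.val_mul, hsi, smul_mul_assoc, one_mul, smul_smul, smul_mul_assoc, one_mul,
              smul_smul, hi', neg_one_mul])]
          exact mul_mem (mul_mem mS' mS') mS'
      simpa using mul_mem (inv_mem hWT) hWr
  · rw [hPk, hPk, hPk]
    have fB : ∀ u w, f ((B : M₄) *ᵥ u) ((B : M₄) *ᵥ w) = f u w := hf B hB
    have fK : ∀ u w, f ((K : M₄) *ᵥ u) ((K : M₄) *ᵥ w) = f u w := hf K hK
    by_cases hkl : k = l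
    · subst hkl
      rw [if_pos rfl]
      fin_cases k <;> simp only [hcol] <;> simp [fB, fK]
      rw [← mulVec_mulVec, fB, fK]
    · rw [if_neg hkl]
      have eA := hf A hA (col k) (col l)
      have eJ := hf J hJ (col k) (col l)
      rw [cA, cA, hfl, hfr] at eA
      rw [cJ, cJ, hfl, hfr] at eJ
      have hcase : (![1, 1, -1, -1] k : F) * σ (![1, 1, -1, -1] l) = -1 ∨
          (![i', -i', i', -i'] k : F) * σ (![i', -i', i', -i'] l) = -1 := by
        fin_cases k <;> fin_cases l <;> simp [hσ, hi'] at hkl ⊢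
      have hz : (2 : F) * f (col k) (col l) = 0 := by
        rcases hcase with e | e
        · linear_combination -eA + f (col k) (col l) * e
        · linear_combination -eJ + f (col k) (col l) * e
      exact (mul_eq_zero.1 hz).resolve_left h2

end CfsgLib.Perm.Trans.KleinSix
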