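import Mathlib
import Cfsg.Agent.Lib.Perm.Trans.KleinSix.Std
import Cfsg.Agent.Lib.Perm.Trans.OrthFrame.Maximal

/-!
# Normalisers of symplectic type two-groups in four dimensions are maximal: the common argument

For an ambient perfect group whose image in the six coordinates is defined over a prime field, the normaliser of the
standard group corresponds to the monomial elements, so the frame dichotomy in dimension six gives maximality.
-/

set_option autoImplicit false
set_option linter.all false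

namespace CfsgLib.Perm.Trans.KleinSix

open scoped Matrix commutatorElement
open Matrix Cfsg Cfsg.Geo CfsgLib.Perm.Trans CfsgLib.Perm.Trans.OrthFrame

variable {F : Type*} [Field F] {K : Type*} [Field K] {i : K}

/-- the hypotheses on the ambient group -/
structure Amb (j : F →+* K) (hi : i * i = -1) (h2 : (2 : K) ≠ 0) (G : Subgroup (GL (Fin 4) K)) : Prop where
  det : ∀ g ∈ G, (g : Matrix (Fin 4) (Fin 4) K).det = 1
  real : ∀ g ∈ G, ∀ r k, ∃ a, j a = (phiK hi h2 g : Matrix (Fin 6) (Fin 6) K) r k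
  perfect : ⁅G, G⁆ = G
  std : stdR hi ≤ G
  turn : ∀ a b, ∃ g ∈ G, (g : Matrix (Fin 4) (Fin 4) K) = (2 : K)⁻¹ • ((1 + mX i a) * (1 + mX i b))
  proper : ¬ G ≤ subgroupNormalizer (stdR hi)

variable {j : F →+* K} {hi : i * i = -1} {h2 : (2 : K) ≠ 0} {G : Subgroup (GL (Fin 4) K)}

theorem Amb.exists_hom (hG : Amb j hi h2 G) :
    ∃ φ : G →* GL (Fin 6) F, ∀ (g : G) (v : Fin 6 → F),
      j ∘ act (φ g) v = kmap i (g.1 : Matrix (Fin 4) (Fin 4) K) (j ∘ v) := by
  choose a ha using fun (g : G) r k => hG.real g.1 g.2 r k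
  have hmap : ∀ g : G, (Matrix.of (a g)).map j = (phiK hi h2 g.1 : Matrix (Fin 6) (Fin 6) K) := fun g => by
    ext r k
    exact ha g r k
  have hinj : Function.Injective fun X : Matrix (Fin 6) (Fin 6) F => X.map j := Matrix.map_injective j.injective
  have hmul : ∀ g h : G, Matrix.of (a (g * h)) = Matrix.of (a g) * Matrix.of (a h) := fun g h => hinj (by
    show (Matrix.of (a (g * h))).map j = (Matrix.of (a g) * Matrix.of (a h)).map j
    rw [Matrix.map_mul, hmap, hmap, hmap, Subgroup.coe_mul, map_mul, Units.val_mul])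
  have hone : Matrix.of (a 1) = 1 := hinj (by
    show (Matrix.of (a 1)).map j = (1 : Matrix (Fin 6) (Fin 6) F).map j
    rw [hmap, Matrix.map_one j (map_zero j) (map_one j), OneMemClass.coe_one, map_one, Units.val_one])
  let Mh : G →* Matrix (Fin 6) (Fin 6) F := { toFun := fun g => Matrix.of (a g), map_one' := hone, map_mul' := hmul }
  refine ⟨Mh.toHomUnits, fun g v => ?_⟩
  rw [← phiK_apply hi h2, ← hmap]
  funext r
  exact RingHom.map_mulVec j (Matrix.of (a g)) v r

/-- a group normalises as soon as it maps into itself -/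
theorem mem_normalizer_of_maps {H : Type*} [Group H] [Finite H] {R : Subgroup H} {g : H}
    (hg : ∀ x ∈ R, g * x * g⁻¹ ∈ R) : g ∈ Subgroup.normalizer (R : Set H) := by
  refine Subgroup.mem_normalizer_iff.2 fun h => ⟨hg h, fun hh => ?_⟩
  let f : R → R := fun r => ⟨g * r * g⁻¹, hg r r.2⟩
  have hf : Function.Injective f := fun a b hab => Subtype.ext (by
    have := congrArg Subtype.val hab
    simpa [f] using this)
  obtain ⟨r, hr⟩ := Finite.injective_iff_surjective.1 hf ⟨_, hh⟩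
  have hrh : (r : H) = h := by simpa [f] using congrArg Subtype.val hr
  exact hrh ▸ r.2

theorem swap_eq_star : ∀ a b : Fin 5, a ≠ b → Equiv.swap a.succ b.succ =
    Equiv.swap (0 : Fin 6) a.succ * (Equiv.swap 0 b.succ * Equiv.swap 0 a.succ) := by
  decide +kernel

variable [Fintype F] [Fintype K]

theorem Amb.maximal (hG : Amb j hi h2 G) (hp : (Fintype.card F).Prime) (hodd : Odd (Fintype.card F)) :
    IsMaximalIn G (subgroupNormalizer (stdR hi) ⊓ G) := by
  classical
  obtain ⟨φ, hφ⟩ := hG.exists_hom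
  have hF2 : (2 : F) ≠ 0 := fun h => h2 (by rw [← map_ofNat j 2, h, map_zero])
  have heq : ∀ (g : G) (v w : Fin 6 → F), kmap i (g.1 : Matrix (Fin 4) (Fin 4) K) (j ∘ v) = j ∘ w → act (φ g) v = w :=
    fun g v w h => funext fun r => j.injective (congrFun ((hφ g v).trans h) r)
  have hkalt : ∀ (g : Matrix (Fin 4) (Fin 4) K) (y y' : Fin 6 → K), g * alt i y * gᵀ = alt i y' → kmap i g y = y' :=
    fun g y y' h => by
      show co i (g * alt i y * gᵀ) = y'
      rw [h, co_alt hi h2]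
  have hiso : ∀ g : G, φ g ∈ Cfsg.isometryGroup F (stdQ : (Fin 6 → F) → F) := fun g => Quad.mem_iso.2 fun v => by
    refine j.injective ?_
    show j (stdQ (act (φ g) v)) = j (stdQ v)
    have e : ∀ w : Fin 6 → F, j (stdQ w) = stdQ (j ∘ w) := fun w => RingHom.map_dotProduct j w w
    rw [e, e, hφ, kmap_quad hi h2, hG.det g.1 g.2, one_mul]
  -- the image lies in `Ω`
  have htop : ⁅(⊤ : Subgroup G), (⊤ : Subgroup G)⁆ = (⊤ : Subgroup G) := by
    apply Subgroup.map_injective G.subtype_injective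
    rw [Subgroup.map_commutator, ← MonoidHom.range_eq_map, Subgroup.range_subtype, hG.perfect]
  have hΩ : ∀ g : G, φ g ∈ omegaGL (stdQ : (Fin 6 → F) → F) := fun g => by
    have h : φ g ∈ (⁅(⊤ : Subgroup G), (⊤ : Subgroup G)⁆).map φ := by
      rw [htop]; exact Subgroup.mem_map_of_mem φ (Subgroup.mem_top g)
    rw [Subgroup.map_commutator, ← MonoidHom.range_eq_map] at h
    rw [omegaGL_eq_comm]
    exact Subgroup.commutator_mono (by rintro _ ⟨x, rfl⟩; exact hiso x) (by rintro _ ⟨x, rfl⟩; exact hiso x) h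
  -- the kernel
  have hSmem : gS hi ∈ stdR hi := Subgroup.subset_closure (by simp)
  have hker : ∀ g : G, φ g = 1 → g.1 ∈ stdR hi := by
    intro g hg
    obtain ⟨c, hc, hgc⟩ := scalar_of_kmap hi h2 (hG.det g.1 g.2) (fun y => by
      rw [show y = ∑ k, y k • (Pi.single k 1 : Fin 6 → K) by simpa using pi_eq_sum_univ' y, map_sum]
      refine Finset.sum_congr rfl fun k _ => ?_
      rw [map_smul]
      congr 1
      have e : (Pi.single k 1 : Fin 6 → K) = j ∘ (Pi.single k 1 : Fin 6 → F) := by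
        funext r; simp [Pi.single_apply, apply_ite j]
      rw [e, ← hφ, hg, OrthFrame.act_one])
    rcases mul_self_eq_one_iff.1 hc with rfl | rfl
    · rw [show g.1 = 1 from Units.ext (by rw [hgc, one_smul, Units.val_one])]
      exact one_mem _
    · rw [show g.1 = gS hi * gS hi from Units.ext (by
        rw [hgc, Units.val_mul]
        show (-1 : K) • (1 : Matrix (Fin 4) (Fin 4) K) = mS i * mS i
        ext r s
        fin_cases r <;> fin_cases s <;> simp [mS, hi])]
      exact mul_mem hSmem hSmem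
  -- sign changes
  let Dg : Subgroup (GL (Fin 6) F) :=
    { carrier := {x | ∃ D, x = flp D}
      one_mem' := ⟨∅, flp_empty.symm⟩
      mul_mem' := by rintro _ _ ⟨D, rfl⟩ ⟨E, rfl⟩; exact ⟨_, flp_mul D E⟩
      inv_mem' := by rintro _ ⟨D, rfl⟩; exact ⟨D, flp_inv D⟩ }
  have hgen : ∀ (g : G) (D : Finset (Fin 6)) (m : Matrix (Fin 4) (Fin 4) K), (g.1 : Matrix (Fin 4) (Fin 4) K) = m →
      (∀ y : Fin 6 → K, m * alt i y * mᵀ = alt i fun k => if k ∈ D then -y k else y k) → φ g = flp D := by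
    intro g D m hm hy
    refine gl_ext_bv fun k => heq g _ _ ?_
    rw [hm, hkalt _ _ _ (hy _), OrthFrame.act_flp]
    funext r
    simp only [Function.comp_apply]
    split <;> simp
  have hstd : ∀ g : G, g.1 ∈ stdR hi → φ g ∈ Dg := by
    intro g hg
    have hle : stdR hi ≤ (Dg.comap φ).map G.subtype := by
      refine (Subgroup.closure_le _).2 fun x hx => ?_
      have hxG : x ∈ G := hG.std (Subgroup.subset_closure hx)
      refine ⟨⟨x, hxG⟩, ?_, rfl⟩
      simp only [Set.mem_insert_iff, Set.mem_singleton_iff] at hx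
      show φ ⟨x, hxG⟩ ∈ Dg
      rcases hx with rfl | rfl | rfl | rfl | rfl
      · exact ⟨{2, 3, 4, 5}, hgen _ _ mA rfl fun y => by rw [alt_mA]; congr 1; funext r; fin_cases r <;> simp⟩
      · exact ⟨{1, 2, 3, 4}, hgen _ _ mB rfl fun y => by rw [alt_mB]; congr 1; funext r; fin_cases r <;> simp⟩
      · exact ⟨{2, 3}, hgen _ _ (mJ i) rfl fun y => by rw [alt_mJ hi]; congr 1; funext r; fin_cases r <;> simp⟩
      · exact ⟨{2, 4}, hgen _ _ mK rfl fun y => by rw [alt_mK]; congr 1; funext r; fin_cases r <;> simp⟩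
      · exact ⟨Finset.univ, hgen _ _ (mS i) rfl fun y => by rw [alt_mS hi]; congr 1; funext r; fin_cases r <;> simp⟩
    obtain ⟨x, hx, hxg⟩ := hle hg
    rwa [← Subtype.ext hxg]
  have hpair : ∀ a b : Fin 6, a ≠ b → ∃ g : G, g.1 ∈ stdR hi ∧ φ g = flp {a, b} := by
    have hx : ∀ k : Fin 5, ∃ g : G, g.1 ∈ stdR hi ∧ φ g = flp {0, k.succ} := fun k =>
      ⟨⟨gX hi k, hG.std (gX_mem hi k)⟩, gX_mem hi k, hgen _ _ (mX i k) rfl fun y => by
        rw [alt_mX hi]
        congr 1
        funext r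
        fin_cases k <;> fin_cases r <;> simp [flipped]⟩
    intro a b hab
    rcases Fin.eq_zero_or_eq_succ a with rfl | ⟨a', rfl⟩
    · obtain ⟨b', rfl⟩ := Fin.exists_succ_eq_of_ne_zero (Ne.symm hab)
      exact hx b'
    rcases Fin.eq_zero_or_eq_succ b with rfl | ⟨b', rfl⟩
    · rw [Finset.pair_comm]
      exact hx a'
    obtain ⟨g, hg, hgD⟩ := hx a'
    obtain ⟨h, hh, hhD⟩ := hx b'
    refine ⟨g * h, mul_mem hg hh, ?_⟩
    rw [map_mul, hgD, hhD, flp_mul]
    congr 1
    ext r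
    simp only [Finset.mem_symmDiff, Finset.mem_insert, Finset.mem_singleton]
    have h0 : a'.succ ≠ 0 := Fin.succ_ne_zero a'
    have h0' : b'.succ ≠ 0 := Fin.succ_ne_zero b'
    constructor
    · rintro (⟨rfl | rfl, h⟩ | ⟨rfl | rfl, h⟩) <;> simp_all
    · rintro (rfl | rfl) <;> simp_all [Ne.symm hab]
  have hmonoconj : ∀ g : G, Mono (φ g) → g.1 ∈ subgroupNormalizer (stdR hi) := by
    intro g hgm
    refine mem_normalizer_of_maps fun x hx => ?_
    obtain ⟨xg, hxg⟩ : ∃ xg : G, xg.1 = x := ⟨⟨x, hG.std hx⟩, rfl⟩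
    obtain ⟨D, hD⟩ := hstd xg (hxg.symm ▸ hx)
    have hc : φ (g * xg * g⁻¹) = flp (D.map (mperm (⟨φ g, hgm⟩ : monoG (ι := Fin 6) (F := F))).toEmbedding) := by
      rw [map_mul, map_mul, map_inv, hD, ← conj_flp_of_mono hF2 ⟨φ g, hgm⟩ (hiso g)]
    have heven : Even (D.map (mperm (⟨φ g, hgm⟩ : monoG (ι := Fin 6) (F := F))).toEmbedding).card := by
      refine even_of_neg_one_pow hF2 ?_
      rw [← det_flp, ← hc]
      exact det_omegaGL (hΩ _)
    obtain ⟨r, hr, hrD⟩ : ∃ r : G, r.1 ∈ stdR hi ∧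
        φ r = flp (D.map (mperm (⟨φ g, hgm⟩ : monoG (ι := Fin 6) (F := F))).toEmbedding) := by
      let S : Subgroup (GL (Fin 6) F) := ((stdR hi).subgroupOf G).map φ
      -- even sign changes come from pairs
      have key : ∀ E : Finset (Fin 6), Even E.card → flp E ∈ S := by
        intro E
        induction E using Finset.strongInduction with
        | _ E ih =>
        intro hE
        rcases E.eq_empty_or_nonempty with rfl | ⟨a, ha⟩
        · rw [flp_empty]; exact one_mem S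
        · have h1 : 1 < E.card := by
            have := Finset.card_pos.2 ⟨a, ha⟩
            obtain ⟨k, hk⟩ := hE
            omega
          obtain ⟨b, hb, hba⟩ := Finset.exists_mem_ne h1 a
          have he : Even ((E.erase a).erase b).card := by
            rw [Finset.card_erase_of_mem (Finset.mem_erase.2 ⟨hba, hb⟩), Finset.card_erase_of_mem ha]
            obtain ⟨k, hk⟩ := hE
            exact ⟨k - 1, by omega⟩
          have hlt : (E.erase a).erase b ⊂ E :=
            lt_of_le_of_lt (Finset.erase_subset b _) (Finset.erase_ssubset ha)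
          obtain ⟨r, hr, hrD⟩ := hpair a b (Ne.symm hba)
          have h2' := mul_mem (ih _ hlt he) (⟨r, hr, hrD⟩ : flp {a, b} ∈ S)
          rw [flp_mul] at h2'
          convert h2' using 2
          ext y
          simp only [Finset.mem_symmDiff, Finset.mem_erase, Finset.mem_insert, Finset.mem_singleton]
          constructor
          · intro hy
            rcases eq_or_ne y a with rfl | hya
            · exact Or.inr ⟨Or.inl rfl, fun h => h.2.1 rfl⟩
            rcases eq_or_ne y b with rfl | hyb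
            · exact Or.inr ⟨Or.inr rfl, fun h => h.1 rfl⟩
            exact Or.inl ⟨⟨hyb, hya, hy⟩, by simp [hya, hyb]⟩
          · rintro (⟨⟨-, -, hy⟩, -⟩ | ⟨rfl | rfl, -⟩)
            exacts [hy, ha, hb]
      obtain ⟨r, hr, hrD⟩ := key _ heven
      exact ⟨r, hr, hrD⟩
    have h1 : (g * xg * g⁻¹ * r⁻¹).1 ∈ stdR hi := hker _ (by rw [map_mul, map_inv φ r, hc, hrD, mul_inv_cancel])
    have h3 := mul_mem h1 hr
    simp only [Subgroup.coe_mul, Subgroup.coe_inv, inv_mul_cancel_right, hxg] at h3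
    exact h3
  refine ⟨lt_of_le_of_ne inf_le_right fun e => hG.proper (e ▸ inf_le_left), fun M hM1 hM2 => ?_⟩
  obtain ⟨H, hHdef⟩ : ∃ H, H = (M.subgroupOf G).map φ := ⟨_, rfl⟩
  have hRM : ∀ r : G, r.1 ∈ stdR hi → φ r ∈ H := fun r hr =>
    hHdef ▸ ⟨r, hM1 ⟨Subgroup.le_normalizer hr, r.2⟩, rfl⟩
  have hHΩ : ∀ h ∈ H, h ∈ omegaGL (stdQ : (Fin 6 → F) → F) := by
    rw [hHdef]; rintro _ ⟨g, -, rfl⟩; exact hΩ g
  have hflp : ∀ a b : Fin 6, a ≠ b → flp {a, b} ∈ H := fun a b hab => by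
    obtain ⟨g, hg, hgD⟩ := hpair a b hab
    exact hgD ▸ hRM g hg
  -- the realised permutations
  obtain ⟨P, hP⟩ : ∃ P : Subgroup (Equiv.Perm (Fin 6)), P = (H.subgroupOf monoG).map mperm := ⟨_, rfl⟩
  have hturn : ∀ a b : Fin 5, Equiv.swap 0 a.succ * Equiv.swap 0 b.succ ∈ P := by
    intro a b
    obtain ⟨g, hg, hgm⟩ := hG.turn a b
    obtain ⟨σ, hσ⟩ : ∃ σ, σ = Equiv.swap (0 : Fin 6) a.succ * Equiv.swap 0 b.succ := ⟨_, rfl⟩
    have hsgn : ∀ (k : Fin 5) (r : Fin 6), ∃ c : F, turn2 k (Pi.single r 1 : Fin 6 → K) =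
        j ∘ (c • bv (Equiv.swap (0 : Fin 6) k.succ r) : Fin 6 → F) := by
      intro k r
      refine ⟨if r = 0 ∧ (k = 0 ∨ k = 2 ∨ k = 4) then 1 else if r = k.succ ∧ (k = 0 ∨ k = 2 ∨ k = 4) then -1 else
        if r = 0 then -1 else 1, funext fun s => ?_⟩
      fin_cases k <;> fin_cases r <;> fin_cases s <;>
        simp [turn2, OrthFrame.bv, Pi.single_apply, Equiv.swap_apply_def]
    have hlin : ∀ (k : Fin 5) (c : K) (y : Fin 6 → K), turn2 k (c • y) = c • turn2 k y := fun k c y => by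
      funext s
      fin_cases k <;> fin_cases s <;> simp [turn2]
    have hact : ∀ r, ∃ c : F, act (φ ⟨g, hg⟩) (bv r) = c • bv (σ r) := by
      intro r
      obtain ⟨c₁, hc₁⟩ := hsgn b r
      obtain ⟨c₂, hc₂⟩ := hsgn a (Equiv.swap (0 : Fin 6) b.succ r)
      refine ⟨c₁ * c₂, heq ⟨g, hg⟩ _ _ ?_⟩
      have e : j ∘ (bv r : Fin 6 → F) = (Pi.single r 1 : Fin 6 → K) := by
        funext s; simp [OrthFrame.bv, Pi.single_apply, apply_ite j]
      have e₁ : j ∘ (c₁ • bv (Equiv.swap (0 : Fin 6) b.succ r) : Fin 6 → F) =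
          j c₁ • (Pi.single (Equiv.swap (0 : Fin 6) b.succ r) 1 : Fin 6 → K) := by
        funext s; simp [OrthFrame.bv, Pi.single_apply, apply_ite j]
      have e₂ : j c₁ • (j ∘ (c₂ • bv (σ r) : Fin 6 → F)) = j ∘ ((c₁ * c₂) • bv (σ r) : Fin 6 → F) := by
        funext s; simp [mul_assoc]
      refine hkalt _ _ _ ?_
      rw [hgm, e, Matrix.smul_mul, Matrix.transpose_smul, Matrix.mul_smul, Matrix.smul_mul, Matrix.transpose_mul,
        show (1 + mX i a) * (1 + mX i b) * alt i (Pi.single r 1) * ((1 + mX i b)ᵀ * (1 + mX i a)ᵀ) =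
          (1 + mX i a) * ((1 + mX i b) * alt i (Pi.single r 1) * (1 + mX i b)ᵀ) * (1 + mX i a)ᵀ by
          simp only [Matrix.mul_assoc],
        alt_turn hi, Matrix.mul_smul, Matrix.smul_mul, alt_turn hi, hc₁, e₁, hlin, hc₂,
        show j c₁ • (j ∘ (c₂ • bv (Equiv.swap (0 : Fin 6) a.succ (Equiv.swap (0 : Fin 6) b.succ r)) : Fin 6 → F)) =
          j ∘ ((c₁ * c₂) • bv (σ r) : Fin 6 → F) by rw [← e₂, hσ]; rfl, smul_smul, smul_smul, smul_smul]
      rw [show (2 : K)⁻¹ * (2 : K)⁻¹ * 2 * 2 = 1 by field_simp, one_smul]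
    obtain ⟨xm, hxm⟩ : ∃ xm : monoG (ι := Fin 6) (F := F), xm.1 = φ ⟨g, hg⟩ :=
      ⟨⟨_, fun r => ⟨_, hact r⟩⟩, rfl⟩
    have hgM : g ∈ M := hM1 ⟨hmonoconj ⟨g, hg⟩ (fun r => ⟨_, hact r⟩), hg⟩
    rw [hP, ← hσ]
    refine ⟨xm, ?_, Equiv.ext fun r => ?_⟩
    · show xm.1 ∈ H
      rw [hxm, hHdef]
      exact ⟨⟨g, hg⟩, hgM, rfl⟩
    · obtain ⟨c, hc⟩ := hact r
      exact mperm_eq (c := c) (by rw [hxm]; exact hc)
  have heven : ∀ σ : Equiv.Perm (Fin 6), Equiv.Perm.sign σ = 1 → σ ∈ P := by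
    obtain ⟨Q, hQ⟩ : ∃ Q : Subgroup (Equiv.Perm (Fin 6)), Q = P ⊓ alternatingGroup (Fin 6) := ⟨_, rfl⟩
    have hQm : ∀ a b : Fin 5, Equiv.swap 0 a.succ * Equiv.swap 0 b.succ ∈ Q := fun a b => hQ ▸
      ⟨hturn a b, Equiv.Perm.mem_alternatingGroup.2 (by
        rw [map_mul, Equiv.Perm.sign_swap (Fin.succ_ne_zero a).symm, Equiv.Perm.sign_swap (Fin.succ_ne_zero b).symm]
        rfl)⟩
    obtain ⟨t, ht⟩ : ∃ t, t = Equiv.swap (0 : Fin 6) (Fin.succ 0) := ⟨_, rfl⟩
    have htt : t * t = 1 := ht ▸ Equiv.swap_mul_self 0 _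
    have hstep : ∀ (k : Fin 5) (σ : Equiv.Perm (Fin 6)), (σ ∈ Q ∨ t * σ ∈ Q) →
        (Equiv.swap 0 k.succ * σ ∈ Q ∨ t * (Equiv.swap 0 k.succ * σ) ∈ Q) := by
      intro k σ hσ
      rcases hσ with h | h
      · exact Or.inr (by rw [← mul_assoc]; exact mul_mem (ht ▸ hQm 0 k) h)
      · refine Or.inl ?_
        rw [show Equiv.swap 0 k.succ * σ = (Equiv.swap 0 k.succ * t) * (t * σ) by
          rw [mul_assoc, ← mul_assoc t, htt, one_mul]]
        exact mul_mem (ht ▸ hQm k 0) h
    have hall : ∀ σ : Equiv.Perm (Fin 6), σ ∈ Q ∨ t * σ ∈ Q := by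
      intro σ
      induction σ using Equiv.Perm.swap_induction_on with
      | one => exact Or.inl (one_mem Q)
      | swap_mul f x y hxy ih =>
        rcases Fin.eq_zero_or_eq_succ x with rfl | ⟨a, rfl⟩
        · obtain ⟨b, rfl⟩ := Fin.exists_succ_eq_of_ne_zero (Ne.symm hxy)
          exact hstep b f ih
        rcases Fin.eq_zero_or_eq_succ y with rfl | ⟨b, rfl⟩
        · rw [Equiv.swap_comm]
          exact hstep a f ih
        · have e := swap_eq_star a b (fun e => hxy (by rw [e]))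
          rw [e, mul_assoc, mul_assoc]
          exact hstep a _ (hstep b _ (hstep a f ih))
    intro σ hσ
    rcases hall σ with h | h
    · exact (hQ ▸ h : σ ∈ P ⊓ _).1
    · exfalso
      have h1 : t * σ ∈ alternatingGroup (Fin 6) := (Subgroup.mem_inf.1 (hQ ▸ h)).2
      rw [Equiv.Perm.mem_alternatingGroup, map_mul, hσ, ht, Equiv.Perm.sign_swap (Fin.succ_ne_zero _).symm] at h1
      exact absurd h1 (by decide)
  have hH : Frame H := by
    refine ⟨fun h hh => ?_, hflp, fun σ hσ => ?_⟩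
    · rw [hHdef] at hh; obtain ⟨g, -, rfl⟩ := hh; exact hiso g
    · obtain ⟨xm, hxm, hxσ⟩ := hP ▸ heven σ hσ
      have hxH : xm.1 ∈ H := hxm
      obtain ⟨D, hD⟩ := exists_normal hF2 xm (by
        rw [hHdef] at hxH; obtain ⟨g, -, hg⟩ := hxH; exact hg ▸ hiso g)
      rw [hxσ] at hD
      have hdet := det_omegaGL (hHΩ _ hxH)
      rw [hD, Units.val_mul, Matrix.det_mul, det_pm, det_flp, hσ] at hdet
      have hDe : Even D.card := even_of_neg_one_pow hF2 (by simpa using hdet)
      have hDH : flp D ∈ H := by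
        revert hDe
        clear hD hdet
        induction D using Finset.strongInduction with
        | _ D ih =>
        intro hDe
        rcases D.eq_empty_or_nonempty with rfl | ⟨a, ha⟩
        · rw [flp_empty]; exact one_mem H
        · have h1 : 1 < D.card := by
            have := Finset.card_pos.2 ⟨a, ha⟩
            obtain ⟨k, hk⟩ := hDe
            omega
          obtain ⟨b, hb, hba⟩ := Finset.exists_mem_ne h1 a
          have hlt : D \ {a, b} ⊂ D := (Finset.ssubset_iff_of_subset Finset.sdiff_subset).2 ⟨a, ha, by simp⟩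
          have hsub : ({a, b} : Finset (Fin 6)) ⊆ D := by simp [Finset.insert_subset_iff, ha, hb]
          have he : Even (D \ {a, b}).card := by
            rw [Finset.card_sdiff_of_subset hsub, Finset.card_pair (Ne.symm hba)]
            obtain ⟨k, hk⟩ := hDe
            exact ⟨k - 1, by omega⟩
          have h3 := mul_mem (ih _ hlt he) (hflp a b (Ne.symm hba))
          rwa [flp_mul, show symmDiff (D \ {a, b}) {a, b} = D by
            rw [Disjoint.symmDiff_eq_sup Finset.sdiff_disjoint]; exact Finset.sdiff_union_of_subset hsub] at h3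
      have := mul_mem hxH (inv_mem hDH)
      rwa [hD, mul_inv_cancel_right] at this
  rcases frame_dichotomy hH hp hodd (fun h hh => det_omegaGL (hHΩ h hh)) (by simp) (by simp) with h | h
  · refine Or.inl (le_antisymm (fun g hg => ⟨?_, hM2 hg⟩) hM1)
    exact hmonoconj ⟨g, hM2 hg⟩ (h _ (hHdef ▸ ⟨⟨g, hM2 hg⟩, hg, rfl⟩))
  · refine Or.inr (le_antisymm hM2 fun g hg => ?_)
    obtain ⟨m, hm, hmg⟩ := hHdef ▸ h (hΩ ⟨g, hg⟩)
    have h1 := hker (m⁻¹ * ⟨g, hg⟩) (by rw [map_mul, map_inv, hmg, inv_mul_cancel])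
    have h3 := M.mul_mem (show m.1 ∈ M from hm) (hM1 ⟨Subgroup.le_normalizer h1, G.mul_mem (inv_mem m.2) hg⟩)
    rwa [Subgroup.coe_mul, Subgroup.coe_inv, mul_inv_cancel_left] at h3

end CfsgLib.Perm.Trans.KleinSix
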