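import Mathlib
import Cfsg.Agent.Lib.Perm.Trans.KleinSix.Conj
import Cfsg.Agent.Lib.Perm.Trans.KleinSix.Maximal
import Cfsg.Agent.Lib.Classical.SLNormalized

/-!
# Normalisers of symplectic type groups of order sixty-four are maximal in the special linear group
-/

set_option autoImplicit false
set_option linter.all false

namespace CfsgLib.Perm.Trans.KleinSix

open scoped Matrix commutatorElement
open Matrix Cfsg Cfsg.Geo CfsgLib.Perm.Elusive

variable {F : Type*} [Field F]

theorem mem_sl {g : GL (Fin 4) F} : g ∈ Geo.specialLinear (Fin 4) F ↔ (g : Matrix (Fin 4) (Fin 4) F).det = 1 := by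
  rw [Geo.specialLinear, MonoidHom.mem_ker, Units.ext_iff]
  rfl

theorem sl_eq_map : Geo.specialLinear (Fin 4) F =
    (⊤ : Subgroup (Matrix.SpecialLinearGroup (Fin 4) F)).map Matrix.SpecialLinearGroup.toGL := by
  refine le_antisymm (fun g hg => ⟨⟨g.1, mem_sl.1 hg⟩, trivial, Units.ext rfl⟩) ?_
  rintro _ ⟨A, -, rfl⟩
  exact mem_sl.2 A.2

theorem sl_map_conj (P : GL (Fin 4) F) :
    (Geo.specialLinear (Fin 4) F).map (MulAut.conj P).toMonoidHom = Geo.specialLinear (Fin 4) F := by
  refine le_antisymm ?_ fun g hg => ⟨P⁻¹ * g * P, ?_, ?_⟩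
  · rintro _ ⟨x, hx, rfl⟩
    exact (MonoidHom.normal_ker _).conj_mem x hx P
  · have := (MonoidHom.normal_ker _).conj_mem g hg P⁻¹
    rw [inv_inv] at this
    exact this
  · show P * (P⁻¹ * g * P) * P⁻¹ = g
    group

/-- the turned element -/
theorem det_turn_pair {i : F} (hi : i * i = -1) (h2 : (2 : F) ≠ 0) (a b : Fin 5) :
    ((2 : F)⁻¹ • ((1 + mX i a) * (1 + mX i b))).det = 1 := by
  rw [Matrix.det_smul, Matrix.det_mul, det_turn hi, det_turn hi, Fintype.card_fin]
  field_simp
  ring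

theorem two_ne_zero_of_odd_card [Fintype F] (h : Fintype.card F % 2 = 1) : (2 : F) ≠ 0 := fun h2 => by
  obtain ⟨k, hk⟩ : ∃ k, Fintype.card F = 2 * k + 1 := ⟨Fintype.card F / 2, by omega⟩
  have h0 : (Fintype.card F : F) = 0 := FiniteField.cast_card_eq_zero F
  rw [hk, Nat.cast_add, Nat.cast_mul, Nat.cast_one, Nat.cast_ofNat, h2, zero_mul, zero_add] at h0
  exact one_ne_zero h0

theorem amb_sl [Fintype F] {i : F} (hi : i * i = -1) (h2 : (2 : F) ≠ 0) :
    Amb (RingHom.id F) hi h2 (Geo.specialLinear (Fin 4) F) where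
  det g hg := mem_sl.1 hg
  real g hg r k := ⟨_, rfl⟩
  perfect := by
    rw [sl_eq_map, ← Subgroup.map_commutator, ← commutator_def,
      (CfsgLib.Classical.sl_perfect_and_psl_simple (n := 4) (F := F) (by norm_num) (fun h => by simpa using h.1)).1]
  std := (Subgroup.closure_le _).2 fun x hx => by
    obtain ⟨dA, dB, dJ, dK, dS⟩ := det_gens hi
    simp only [Set.mem_insert_iff, Set.mem_singleton_iff] at hx
    rcases hx with rfl | rfl | rfl | rfl | rfl
    exacts [mem_sl.2 dA, mem_sl.2 dB, mem_sl.2 dJ, mem_sl.2 dK, mem_sl.2 dS]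
  turn a b := ⟨Matrix.GeneralLinearGroup.mkOfDetNeZero _ (by rw [det_turn_pair hi h2 a b]; exact one_ne_zero),
    mem_sl.2 (det_turn_pair hi h2 a b), rfl⟩
  proper h := by
    obtain ⟨t, ht⟩ : ∃ t : GL (Fin 4) F, (t : Matrix (Fin 4) (Fin 4) F) = Matrix.transvection 0 1 1 ∧
        ((t⁻¹ : GL (Fin 4) F) : Matrix (Fin 4) (Fin 4) F) = Matrix.transvection 0 1 (-1) :=
      ⟨⟨Matrix.transvection 0 1 1, Matrix.transvection 0 1 (-1),
        (Matrix.transvection_mul_transvection_same (0 : Fin 4) 1 (by decide) (1 : F) (-1)).trans (by simp),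
        (Matrix.transvection_mul_transvection_same (0 : Fin 4) 1 (by decide) (-1 : F) 1).trans (by simp)⟩, rfl, rfl⟩
    have hsl : t ∈ Geo.specialLinear (Fin 4) F :=
      mem_sl.2 (by rw [ht.1, Matrix.det_transvection_of_ne _ _ (by decide)])
    refine not_normalizes hi (t := t) (k := 3) (r := 0) (s := 1) (by decide) ?_ ?_ (h hsl) <;>
    · rw [Units.val_mul, Units.val_mul, ht.1, ht.2]
      simp [gB, mB, Matrix.transvection, Matrix.single, Matrix.mul_apply, Matrix.one_apply, Fin.sum_univ_four]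

/-- **the sixth clause for the four-dimensional special linear group** -/
theorem sl4_symType_maximal [Fintype F] : ∀ (p : ℕ) (R : Subgroup (Matrix.GeneralLinearGroup (Fin 4) F)),
    p.Prime → Fintype.card F = p → p % 4 = 1 → IsLinearSymplecticTypeData 2 R →
      IsMaximalIn (Geo.specialLinear (Fin 4) F) (subgroupNormalizer R ⊓ Geo.specialLinear (Fin 4) F) := by
  classical
  intro p R hp hc hp4 hR
  have hodd : Fintype.card F % 2 = 1 := by omega
  have hS : STFour.Setting R := ⟨inferInstance, two_ne_zero_of_odd_card hodd, hR.symplecticType, hR.absIrred⟩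
  have hZ : Nat.card (Subgroup.center R) = 4 := by
    obtain ⟨q, e, -, -, h⟩ := hR.field
    rcases h with ⟨h, -⟩ | ⟨-, -, h, -⟩ | ⟨-, -, h, -⟩
    · exact absurd h (by decide)
    · exact h
    · simp at h
  obtain ⟨i, hi, P, hP, -⟩ := exists_base hS hZ
  exact maximal_of_conj P hP (sl_map_conj P)
    ((amb_sl hi hS.two).maximal (hc ▸ hp) (Nat.odd_iff.2 hodd))

end CfsgLib.Perm.Trans.KleinSix
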