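import Mathlib
import Cfsg.Agent.Lib.Perm.Trans.KleinSix.Linear
import Cfsg.Agent.Lib.Classical.PSUSimple

/-!
# Normalisers of symplectic type groups of order sixty-four are maximal in the special unitary group
-/

set_option autoImplicit false
set_option linter.all false

namespace CfsgLib.Perm.Trans.KleinSix

open scoped Matrix commutatorElement
open Matrix Cfsg Cfsg.Geo CfsgLib.Perm.Elusive

variable {F : Type*} [Field F] {q : ℕ} (C : CfsgLib.SU.UCtx F q)

local notation "M₄" => Matrix (Fin 4) (Fin 4) F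

/-- the conjugation -/
abbrev barHom : F →+* F := RingEquiv.toRingHom C.bar

theorem herm_mat (X : M₄) (u w : Fin 4 → F) :
    Cfsg.hermForm 4 F q (X *ᵥ u) (X *ᵥ w) = u ⬝ᵥ ((Xᵀ * X.map (barHom C)) *ᵥ (barHom C ∘ w)) := by
  rw [← mulVec_mulVec, dotProduct_mulVec, vecMul_transpose]
  have : X.map (barHom C) *ᵥ (barHom C ∘ w) = barHom C ∘ (X *ᵥ w) :=
    funext fun r => ((barHom C).map_mulVec X w r).symm
  rw [this]
  exact Finset.sum_congr rfl fun r _ => congrArg _ (C.bar_eq _).symm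

theorem herm_mat_single (X : M₄) (k l : Fin 4) :
    Cfsg.hermForm 4 F q (X *ᵥ Pi.single k 1) (X *ᵥ Pi.single l 1) = (Xᵀ * X.map (barHom C)) k l := by
  rw [herm_mat C, show barHom C ∘ (Pi.single l 1 : Fin 4 → F) = Pi.single l 1 from funext fun r => by
    by_cases h : r = l
    · subst h; simp
    · simp [Pi.single_eq_of_ne h]]
  simp

theorem mem_gu {g : GL (Fin 4) F} :
    g ∈ Cfsg.GU 4 F q ↔ (g : M₄)ᵀ * (g : M₄).map (barHom C) = 1 := by
  constructor
  · intro hg
    ext k l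
    rw [← herm_mat_single C]
    refine (hg _ _).trans ?_
    have e := herm_mat_single C (1 : M₄) k l
    rw [one_mulVec, one_mulVec] at e
    exact e.trans (by simp)
  · intro h u w
    show Cfsg.hermForm 4 F q ((g : M₄) *ᵥ u) ((g : M₄) *ᵥ w) = Cfsg.hermForm 4 F q u w
    have e := herm_mat C (1 : M₄) u w
    rw [one_mulVec, one_mulVec] at e
    rw [herm_mat C, h, e]
    simp

theorem gu_sl_eq_map : Cfsg.GU 4 F q ⊓ Geo.specialLinear (Fin 4) F =
    (Cfsg.SU 4 F q).map Matrix.SpecialLinearGroup.toGL := by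
  refine le_antisymm (fun g hg => ⟨⟨g.1, mem_sl.1 hg.2⟩, fun u w => hg.1 u w, Units.ext rfl⟩) ?_
  rintro _ ⟨A, hA, rfl⟩
  exact ⟨fun u w => hA u w, mem_sl.2 A.2⟩

theorem su_perfect [Fintype F] (hF : Fintype.card F = q ^ 2) :
    commutator ↥(Cfsg.SU 4 F q) = ⊤ := by
  obtain ⟨D⟩ := CfsgLib.Perm.Trans.Unit.ctx_of_card hF
  rw [eq_top_iff, ← CfsgLib.Perm.Trans.Unit.su_closure hF 4 (by norm_num) (by norm_num), commutator_eq_closure]
  exact Subgroup.closure_mono fun A ⟨v, c, hv, hA⟩ =>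
    CfsgLib.Classical.su_transvection_mem D (by norm_num) A v c hv hA

theorem gen_unit {i : F} (hi : i * i = -1) (hs : C.bar i = -i) {x : GL (Fin 4) F}
    (hx : x ∈ ({gA, gB, gJ hi, gK, gS hi} : Set (GL (Fin 4) F))) :
    (x : M₄)ᵀ * (x : M₄).map (barHom C) = 1 := by
  simp only [Set.mem_insert_iff, Set.mem_singleton_iff] at hx
  rcases hx with rfl | rfl | rfl | rfl | rfl <;>
  · ext r s
    fin_cases r <;> fin_cases s <;>
      simp [gA, gB, gJ, gK, gS, mA, mB, mJ, mK, mS, Matrix.mul_apply, Fin.sum_univ_four, hs, hi]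

theorem turn_unit {i : F} (hi : i * i = -1) (hs : C.bar i = -i) (k : Fin 5) :
    (1 + mX i k)ᵀ * (1 + mX i k).map (barHom C) = (2 : F) • 1 := by
  ext r s
  fin_cases k <;> fin_cases r <;> fin_cases s <;>
    simp [mX, Matrix.mul_apply, Fin.sum_univ_four, Matrix.one_apply, hs] <;> grind

theorem turn_pair_unit {i : F} (hi : i * i = -1) (hs : C.bar i = -i) (h2 : (2 : F) ≠ 0) (a b : Fin 5) :
    ((2 : F)⁻¹ • ((1 + mX i a) * (1 + mX i b)))ᵀ *
      ((2 : F)⁻¹ • ((1 + mX i a) * (1 + mX i b))).map (barHom C) = 1 := by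
  have e : ((2 : F)⁻¹ • ((1 + mX i a) * (1 + mX i b))).map (barHom C) =
      (2 : F)⁻¹ • ((1 + mX i a).map (barHom C) * (1 + mX i b).map (barHom C)) := by
    ext r s
    rw [← Matrix.map_mul, Matrix.map_apply, Matrix.smul_apply, Matrix.smul_apply, Matrix.map_apply, smul_eq_mul,
      smul_eq_mul, map_mul, map_inv₀, map_ofNat]
  rw [e, transpose_smul, transpose_mul, smul_mul_assoc, mul_smul_comm, smul_smul, mul_assoc,
    ← mul_assoc (1 + mX i a)ᵀ, turn_unit C hi hs, smul_mul_assoc, one_mul, mul_smul_comm, turn_unit C hi hs,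
    smul_smul, smul_smul]
  rw [show (2 : F)⁻¹ * 2⁻¹ * 2 * 2 = 1 by field_simp, one_smul]

variable [Fintype F]

theorem amb_gu {p : ℕ} [Fact p.Prime] [CharP F p] (C : CfsgLib.SU.UCtx F p) (hF : Fintype.card F = p ^ 2)
    {i : F} (hi : i * i = -1) (hs : C.bar i = -i) (h2 : (2 : F) ≠ 0) :
    Amb (ZMod.castHom dvd_rfl F) hi h2 (Cfsg.GU 4 F p ⊓ Geo.specialLinear (Fin 4) F) where
  det g hg := mem_sl.1 hg.2
  real g hg r k := by
    have hU : (g : M₄).map (barHom C) * (g : M₄)ᵀ = 1 := mul_eq_one_comm.1 ((mem_gu C).1 hg.1)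
    have h := kmap_fixed hi h2 hs (mem_sl.1 hg.2) hU (y := Pi.single k 1)
      (fun l => by by_cases h : l = k
                   · subst h; simp
                   · simp [Pi.single_eq_of_ne h]) r
    rw [← phiK_entry hi h2] at h
    have h' := (C.bar_eq _).symm.trans h
    have hb := (Subfield.mem_bot_iff_pow_eq_self F p).2 h'
    rw [← ZMod.fieldRange_castHom_eq_bot p] at hb
    exact RingHom.mem_fieldRange.1 hb
  perfect := by
    rw [gu_sl_eq_map, ← Subgroup.map_commutator]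
    congr 1
    have h := congrArg (Subgroup.map (Cfsg.SU 4 F p).subtype) (su_perfect hF)
    rw [commutator_def, Subgroup.map_commutator, ← MonoidHom.range_eq_map, Subgroup.range_subtype] at h
    exact h
  std := (Subgroup.closure_le _).2 fun x hx => by
    refine ⟨(mem_gu C).2 (gen_unit C hi hs hx), (amb_sl hi h2).std (Subgroup.subset_closure hx)⟩
  turn a b := ⟨Matrix.GeneralLinearGroup.mkOfDetNeZero _ (by rw [det_turn_pair hi h2 a b]; exact one_ne_zero),
    ⟨(mem_gu C).2 (turn_pair_unit C hi hs h2 a b), mem_sl.2 (det_turn_pair hi h2 a b)⟩, rfl⟩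
  proper h := by
    obtain ⟨x, y, hxy⟩ := ZMod.sq_add_sq p (-1)
    obtain ⟨j, hj⟩ : ∃ j, j = ZMod.castHom dvd_rfl F := ⟨_, rfl⟩
    have hjb : ∀ z : ZMod p, C.bar (j z) = j z := fun z => by
      rw [C.bar_eq, ← map_pow, ZMod.pow_card]
    obtain ⟨a, ha⟩ : ∃ a, a = j x + i * j y := ⟨_, rfl⟩
    obtain ⟨b, hb⟩ : ∃ b, b = j x - i * j y := ⟨_, rfl⟩
    have hab : a * b = -1 := by
      have e := congrArg j hxy
      simp only [map_add, map_pow, map_neg, map_one] at e
      rw [ha, hb]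
      linear_combination e - j y ^ 2 * hi
    have hsa : C.bar a = b := by
      simp only [ha, hb, map_add, map_mul, hjb, hs]; ring
    have hsb : C.bar b = a := by
      simp only [ha, hb, map_sub, map_mul, hjb, hs]; ring
    obtain ⟨t, ht⟩ : ∃ t : GL (Fin 4) F,
        (t : M₄) = !![1 + i, i * b, 0, 0; i * a, 1 - i, 0, 0; 0, 0, 1, 0; 0, 0, 0, 1] ∧
        ((t⁻¹ : GL (Fin 4) F) : M₄) = !![1 - i, -(i * b), 0, 0; -(i * a), 1 + i, 0, 0; 0, 0, 1, 0; 0, 0, 0, 1] :=
      ⟨⟨_, !![1 - i, -(i * b), 0, 0; -(i * a), 1 + i, 0, 0; 0, 0, 1, 0; 0, 0, 0, 1],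
        by ext r s; fin_cases r <;> fin_cases s <;> simp [Matrix.mul_apply, Fin.sum_univ_four] <;> grind,
        by ext r s; fin_cases r <;> fin_cases s <;> simp [Matrix.mul_apply, Fin.sum_univ_four] <;> grind⟩, rfl, rfl⟩
    have hdet : (t : M₄).det = 1 := by
      rw [ht.1, Matrix.det_succ_row_zero]
      simp [Fin.sum_univ_four, Matrix.det_fin_three, Fin.succAbove]
      grind
    have hu : t ∈ Cfsg.GU 4 F p := (mem_gu C).2 (by
      rw [ht.1]
      ext r s
      fin_cases r <;> fin_cases s <;> simp [Matrix.mul_apply, Fin.sum_univ_four, hs, hsa, hsb] <;> grind)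
    have hi1 : 1 + i ≠ 0 := fun e => h2 (by linear_combination hi - (i - 1) * e)
    have hia : i * a ≠ 0 := mul_ne_zero (fun e => by simp [e] at hi) (fun e => by simp [e] at hab)
    refine not_normalizes hi (t := t) (k := 2) (r := 0) (s := 1) (by decide) ?_ ?_ (h ⟨hu, mem_sl.2 hdet⟩) <;>
    · rw [Units.val_mul, Units.val_mul, ht.1, ht.2]
      simp [gB, mB, Matrix.mul_apply, Fin.sum_univ_four, hi1, left_ne_zero_of_mul hia, right_ne_zero_of_mul hia]

/-- **the ninth clause for the four-dimensional special unitary group** -/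
theorem su4_symType_maximal (q : ℕ) (hF : Fintype.card F = q ^ 2) :
    ∀ (p : ℕ) (R : Subgroup (Matrix.GeneralLinearGroup (Fin 4) F)), p.Prime → q = p → p % 4 = 3 →
      IsSymplecticTypeGroup 2 R → ActsAbsolutelyIrreducibly (matrixSet R) → R ≤ Cfsg.GU 4 F q → Nat.card R = 64 →
      Nat.card (Subgroup.center R) = 4 →
      IsMaximalIn (Cfsg.GU 4 F q ⊓ Geo.specialLinear (Fin 4) F)
        (subgroupNormalizer R ⊓ (Cfsg.GU 4 F q ⊓ Geo.specialLinear (Fin 4) F)) := by
  classical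
  intro p R hp hqp hp4 hsymp habs hRG hcard hZ
  subst hqp
  haveI : Fact q.Prime := ⟨hp⟩
  haveI : CharP F q := charP_of_card_eq_prime_pow (f := 2) (by simpa [Nat.card_eq_fintype_card] using hF)
  obtain ⟨C⟩ := CfsgLib.Perm.Trans.Unit.ctx_of_card hF
  have hodd : Fintype.card F % 2 = 1 := by rw [hF, Nat.pow_mod]; have : q % 2 = 1 := by omega
                                           rw [this]
  have hS : STFour.Setting R := ⟨inferInstance, two_ne_zero_of_odd_card hodd, hsymp, habs⟩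
  obtain ⟨i, hi, P, hP, horth⟩ := exists_base hS hZ
  have hs : C.bar i = -i := by
    have e : i ^ 4 = 1 := by linear_combination (i * i - 1) * hi
    rw [C.bar_eq, show q = 4 * (q / 4) + 3 by omega, pow_add, pow_mul, e, one_pow, one_mul]
    linear_combination i * hi
  have hR : ∀ r ∈ R, ∀ u w, Cfsg.hermForm 4 F q ((r : M₄) *ᵥ u) ((r : M₄) *ᵥ w) = Cfsg.hermForm 4 F q u w :=
    fun r hr u w => hRG hr u w
  have horth' := horth (Cfsg.hermForm 4 F q) hR (barHom C) hs
    (fun a u w => by simp only [Cfsg.hermForm, Pi.smul_apply, smul_eq_mul, Finset.mul_sum, mul_assoc])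
    (fun a u w => by
      show _ = C.bar a * _
      rw [C.bar_eq]
      simp only [Cfsg.hermForm, Pi.smul_apply, smul_eq_mul, Finset.mul_sum, mul_pow, mul_left_comm])
  obtain ⟨c, hc⟩ : ∃ c, c = Cfsg.hermForm 4 F q ((P : M₄) *ᵥ Pi.single 0 1) ((P : M₄) *ᵥ Pi.single 0 1) := ⟨_, rfl⟩
  have hPP : (P : M₄)ᵀ * (P : M₄).map (barHom C) = c • 1 := by
    ext k l
    rw [← herm_mat_single C, horth', ← hc, Matrix.smul_apply, Matrix.one_apply]
    split_ifs <;> simp
  have hsim : ∀ u w, Cfsg.hermForm 4 F q ((P : M₄) *ᵥ u) ((P : M₄) *ᵥ w) = c * Cfsg.hermForm 4 F q u w := by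
    intro u w
    have e := herm_mat C (1 : M₄) u w
    rw [one_mulVec, one_mulVec] at e
    rw [herm_mat C, hPP, e]
    simp [smul_mulVec, dotProduct_smul]
  have hc0 : c ≠ 0 := fun h0 => by
    have e := hsim (((P⁻¹ : GL (Fin 4) F) : M₄) *ᵥ Pi.single 0 1) (((P⁻¹ : GL (Fin 4) F) : M₄) *ᵥ Pi.single 0 1)
    rw [h0, zero_mul, mulVec_mulVec, ← Units.val_mul, mul_inv_cancel, Units.val_one, one_mulVec] at e
    simp [Cfsg.hermForm, Fin.sum_univ_four, hp.ne_zero] at e
  have hG : (Cfsg.GU 4 F q ⊓ Geo.specialLinear (Fin 4) F).map (MulAut.conj P).toMonoidHom =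
      Cfsg.GU 4 F q ⊓ Geo.specialLinear (Fin 4) F := by
    have key : ∀ (x : GL (Fin 4) F), x ∈ Cfsg.GU 4 F q ↔ P * x * P⁻¹ ∈ Cfsg.GU 4 F q := by
      intro x
      have hPi : ∀ z, (P : M₄) *ᵥ (((P⁻¹ : GL (Fin 4) F) : M₄) *ᵥ z) = z := fun z => by
        rw [mulVec_mulVec, ← Units.val_mul, mul_inv_cancel, Units.val_one, one_mulVec]
      have hiP : ∀ z, ((P⁻¹ : GL (Fin 4) F) : M₄) *ᵥ ((P : M₄) *ᵥ z) = z := fun z => by
        rw [mulVec_mulVec, ← Units.val_mul, inv_mul_cancel, Units.val_one, one_mulVec]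
      constructor
      · intro hx u w
        show Cfsg.hermForm 4 F q (((P * x * P⁻¹ : GL (Fin 4) F) : M₄) *ᵥ u)
          (((P * x * P⁻¹ : GL (Fin 4) F) : M₄) *ᵥ w) = Cfsg.hermForm 4 F q u w
        simp only [Units.val_mul, ← mulVec_mulVec]
        rw [hsim]
        refine (congrArg (c * ·) (hx _ _)).trans ?_
        rw [← hsim, hPi, hPi]
      · intro hx u w
        show Cfsg.hermForm 4 F q ((x : M₄) *ᵥ u) ((x : M₄) *ᵥ w) = Cfsg.hermForm 4 F q u w
        refine mul_left_cancel₀ hc0 ?_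
        rw [← hsim, ← hsim]
        have e : Cfsg.hermForm 4 F q (((P * x * P⁻¹ : GL (Fin 4) F) : M₄) *ᵥ ((P : M₄) *ᵥ u))
            (((P * x * P⁻¹ : GL (Fin 4) F) : M₄) *ᵥ ((P : M₄) *ᵥ w)) = _ := hx _ _
        simp only [Units.val_mul, ← mulVec_mulVec, hiP] at e
        exact e
    refine le_antisymm ?_ fun g hg => ⟨P⁻¹ * g * P, ⟨?_, ?_⟩, ?_⟩
    · rintro _ ⟨x, hx, rfl⟩
      exact ⟨(key x).1 hx.1, (MonoidHom.normal_ker _).conj_mem x hx.2 P⟩
    · show P⁻¹ * g * P ∈ Cfsg.GU 4 F q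
      rw [key, show P * (P⁻¹ * g * P) * P⁻¹ = g by group]
      exact hg.1
    · have := (MonoidHom.normal_ker _).conj_mem g hg.2 P⁻¹
      rw [inv_inv] at this
      exact this
    · show P * (P⁻¹ * g * P) * P⁻¹ = g
      group
  exact maximal_of_conj P hP hG ((amb_gu C hF hi hs hS.two).maximal (by rw [ZMod.card]; exact hp)
    (by rw [ZMod.card, Nat.odd_iff]; omega))

end CfsgLib.Perm.Trans.KleinSix
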